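import Groth.Agent.Vancyc.H681.ScalC
import Groth.Agent.EtpbcB.StrictLoc

/-!
# `(σ - 1) (τ - 1) = 0`: the formal part
-/

set_option autoImplicit false
universe u
open CategoryTheory CategoryTheory.Limits AlgebraicGeometry Opposite
open scoped Groth.Agent.Etcore.EtInst
open Groth.Agent.Etcore.EtInst Groth.Agent.Etcore.HpullCalc Groth.Agent.Etcore.HpVia

namespace Groth.Agent.Vancyc.H681.PicLefFormal

open Groth.Agent.Vancyc.H681.Restr Groth.Agent.Vancyc.H681.ScalC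

attribute [local instance] Groth.Agent.S0101.result

variable {R : Type u} [CommRing R] {K : Type u} [Field K] [Algebra R K] {Ω : Type u} [Field Ω]
  [Algebra K Ω] [Algebra R Ω] [IsScalarTower R K Ω]
  {X P : Scheme.{u}} (f : X ⟶ Spec (CommRingCat.of R)) (g : P ⟶ X) (σ τ : Ω ≃ₐ[K] Ω) (N i : ℕ)

/-- `(τ - 1) a` dies on `P_Ω` if `τ` acts trivially on `H^i(P_Ω)`. -/
theorem resM_sub (h : Scal 1 (g ≫ f) τ N i)
    (a : HH (VanCyc.fib R f Ω) ((EtCoh.pull (VanCyc.jA R f Ω)).obj (EtCoh.const X (ZMod N))) i) :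
    resM f g (EtCoh.const X (ZMod N)) i (VanCyc.galH f τ (EtCoh.const X (ZMod N)) i a - a) = 0 := by
  rw [map_sub, resM_galH f g (fun {_ _} h => S0101.result h) τ (EtCoh.const X (ZMod N)) i a,
    galM_eq 1 f g τ N i h, one_zsmul, sub_self]

/-- The formal part. -/
theorem formal
    (D : HH (VanCyc.fib R f Ω) ((EtCoh.pull (VanCyc.jA R f Ω)).obj (EtCoh.const X (ZMod N))) i → Prop)
    (hK : ∀ a : HH (VanCyc.fib R f Ω) ((EtCoh.pull (VanCyc.jA R f Ω)).obj (EtCoh.const X (ZMod N))) i, D a →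
      ∃ b : HH X (EtCoh.const X (ZMod N)) i, hp (VanCyc.jA R f Ω) (EtCoh.const X (ZMod N)) i b = a)
    (hD : ∀ a, D (VanCyc.galH f τ (EtCoh.const X (ZMod N)) i a - a)) :
    (VanCyc.galH f σ (EtCoh.const X (ZMod N)) i - AddMonoidHom.id _).comp
      (VanCyc.galH f τ (EtCoh.const X (ZMod N)) i - AddMonoidHom.id _) = 0 := by
  ext a
  obtain ⟨b, hb⟩ := hK (VanCyc.galH f τ (EtCoh.const X (ZMod N)) i a - a) (hD a)
  have h1 : VanCyc.galH f σ (EtCoh.const X (ZMod N)) i (hp (VanCyc.jA R f Ω) (EtCoh.const X (ZMod N)) i b) =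
      hp (VanCyc.jA R f Ω) (EtCoh.const X (ZMod N)) i b :=
    hpVia_hp (VanCyc.galGeom f σ) (VanCyc.jA R f Ω) (VanCyc.jA R f Ω) (VanCyc.galGeom_jA f σ)
      (EtCoh.const X (ZMod N)) i b
  change VanCyc.galH f σ (EtCoh.const X (ZMod N)) i (VanCyc.galH f τ (EtCoh.const X (ZMod N)) i a - a) -
    (VanCyc.galH f τ (EtCoh.const X (ZMod N)) i a - a) = 0
  rw [← hb, h1, sub_self]

end Groth.Agent.Vancyc.H681.PicLefFormal
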