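import Groth.Agent.Vancyc.H681.ScalC
import Groth.Agent.Sga1.UlaSL
import Groth.Agent.EtpbcB.OshHens

/-!
# Scalar action on strict localizations: transport along a roof of étale morphisms
-/

set_option autoImplicit false
universe u
open CategoryTheory CategoryTheory.Limits AlgebraicGeometry IsLocalRing

namespace Groth.Agent.Vancyc.H681.ScalLoc

open Groth.Agent.Vancyc.H681.ScalC Groth.Agent.Etrest.StrictLoc Groth.Agent.Sga1.UlaSL
  Groth.Agent.EtpbcB.StrictLoc

variable {R : Type u} [CommRing R] {K : Type u} [Field K] [Algebra R K] {Ω : Type u} [Field Ω]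
  [Algebra K Ω] [Algebra R Ω] [IsScalarTower R K Ω] (e : ℤ) (σ : Ω ≃ₐ[K] Ω) (N n : ℕ)

section single

variable {X : Scheme.{u}} (f : X ⟶ Spec (CommRingCat.of R))

/-- Strict localizations at the same point. -/
theorem of_strictLoc {C C' : Type u} [CommRing C] [IsLocalRing C] [CommRing C'] [IsLocalRing C']
    {τ : Spec (CommRingCat.of C) ⟶ X} {τ' : Spec (CommRingCat.of C') ⟶ X} (hτ : IsStrictLoc τ)
    (hτ' : IsStrictLoc τ') (h : τ (closedPoint C) = τ' (closedPoint C'))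
    (ht : Scal e (τ ≫ f) σ N n) : Scal e (τ' ≫ f) σ N n := by
  obtain ⟨g, -, hg2, hg3⟩ := hτ.exists_equiv hτ' h
  have := isIso_spm g hg2
  exact of_isIso' e (τ ≫ f) (spm g) σ N n (by rw [← Category.assoc, hg3]) ht

end single

variable {X Y U : Scheme.{u}} (f : X ⟶ Spec (CommRingCat.of R)) (g : Y ⟶ Spec (CommRingCat.of R))
  (p : U ⟶ X) (q : U ⟶ Y) [Etale p] [Etale q] (w : p ≫ f = q ≫ g)

theorem toBase_closedPoint {Z : Scheme.{u}} {Ω' : Type u} [Field Ω'] [IsSepClosed Ω']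
    (ξ : Spec (CommRingCat.of Ω') ⟶ Z) : toBase ξ (closedPoint (Osh ξ)) = ξ default := by
  rw [← pt_default]
  exact congrArg (fun q => q default) (pt_toBase ξ)

include w in
/-- Transport along a roof, for arbitrary strict localizations. -/
theorem of_roof_aux (C Cp Cq : CommRingCat.{u}) (_ : IsLocalRing C) (_ : IsLocalRing Cp)
    (_ : IsLocalRing Cq) (τ : Spec C ⟶ U) (τp : Spec Cp ⟶ X) (τq : Spec Cq ⟶ Y)
    (hτ : IsStrictLoc (R := C) τ) (hp : IsStrictLoc (R := Cp) τp) (hq : IsStrictLoc (R := Cq) τq)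
    (ep : (τ ≫ p) (closedPoint C) = τp (closedPoint Cp)) (eq : τq (closedPoint Cq) = (τ ≫ q) (closedPoint C))
    (h : Scal e (τq ≫ g) σ N n) : Scal e (τp ≫ f) σ N n := by
  have h1 : Scal e ((τ ≫ q) ≫ g) σ N n :=
    of_strictLoc (C := Cq) (C' := C) e σ N n g hq (IsStrictLoc.comp (C := C) hτ q) eq h
  have h2 : Scal e ((τ ≫ p) ≫ f) σ N n := by
    have e3 : (τ ≫ p) ≫ f = (τ ≫ q) ≫ g := by
      rw [Category.assoc, Category.assoc, w]
    rw [e3]
    exact h1
  exact of_strictLoc (C := C) (C' := Cp) e σ N n f (IsStrictLoc.comp (C := C) hτ p) hp ep h2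

include w in
/-- **Transport along a roof.** -/
theorem of_roof {Ω' : Type u} [Field Ω'] [IsSepClosed Ω'] (ζ : Spec (CommRingCat.of Ω') ⟶ U)
    (h : Scal e (toBase (ζ ≫ q) ≫ g) σ N n) : Scal e (toBase (ζ ≫ p) ≫ f) σ N n := by
  have e1 : (toBase ζ ≫ q) (closedPoint (Osh ζ)) = (ζ ≫ q) default := by
    rw [Scheme.Hom.comp_apply, toBase_closedPoint, Scheme.Hom.comp_apply]
  have e2 : (toBase ζ ≫ p) (closedPoint (Osh ζ)) = (ζ ≫ p) default := by
    rw [Scheme.Hom.comp_apply, toBase_closedPoint, Scheme.Hom.comp_apply]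
  exact of_roof_aux e σ N n f g p q w (Osh ζ) (Osh (ζ ≫ p)) (Osh (ζ ≫ q)) inferInstance inferInstance
    inferInstance (toBase ζ) (toBase (ζ ≫ p)) (toBase (ζ ≫ q))
    (EtpbcB.OshHens.isStrictLoc_toBase ζ) (EtpbcB.OshHens.isStrictLoc_toBase (ζ ≫ p))
    (EtpbcB.OshHens.isStrictLoc_toBase (ζ ≫ q)) (e2.trans (toBase_closedPoint (ζ ≫ p)).symm)
    ((toBase_closedPoint (ζ ≫ q)).trans e1.symm) h

end Groth.Agent.Vancyc.H681.ScalLoc
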