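import Groth.Agent.Vancyc.H681.ScalC
import Groth.Agent.Vancyc.H695.ECgal

/-!
# Scalar action on the stalks of the nearby cycles

`psiGal_apply` : if `σ` acts as multiplication by `e` on `H^i((Spec O^sh_ξ)_Ω, ℤ/N)` then it does on the
stalk at `ξ` of the nearby cycles.
-/

set_option autoImplicit false
universe u
open CategoryTheory CategoryTheory.Limits AlgebraicGeometry Opposite
open scoped Groth.Agent.Etcore.EtInst
open Groth.Agent.Etcore.EtInst Groth.Agent.Etcore.HpullCalc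

namespace Groth.Agent.Vancyc.H681.ScalPsi

open Groth.Agent.EtpbcB.StrictLoc Groth.Agent.Vancyc.H681.ScalC

variable {R K Ω : Type u} [CommRing R] [IsLocalRing R] [IsNoetherianRing R]
  [Field K] [Algebra R K] [IsFractionRing R K] [Field Ω] [Algebra K Ω] [Algebra.IsSeparable K Ω]
  [Algebra R Ω] [IsScalarTower R K Ω]
  {X : Scheme.{u}} (f : X ⟶ Spec (CommRingCat.of R))
  {Ω' : Type u} [Field Ω'] [IsSepClosed Ω'] (ξ : Spec (CommRingCat.of Ω') ⟶ VanCyc.spFib R f)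
  (N i : ℕ) (e : ℤ) (σ : Ω ≃ₐ[K] Ω)

theorem psiGal_apply (h : Scal e (toBase (ξ ≫ VanCyc.icl R f) ≫ f) σ N i)
    (z : (EtCoh.stalk ξ).obj (VanCyc.psiT R Ω f i (EtCoh.const X (ZMod N)))) :
    (EtCoh.stalk ξ).map (VanCyc.psiGal f σ i (EtCoh.const X (ZMod N))) z = e • z := by
  have hlex : ∀ σ : Ω ≃ₐ[K] Ω, PreservesFiniteLimits
      (EtCoh.pull (VanCyc.galGeom (toBase (ξ ≫ VanCyc.icl R f) ≫ f) σ)) := fun σ => S0101.result _
  obtain ⟨Φ, hΦ⟩ := H695.ECgal.exists_psi_hpVia (K := K) (Ω := Ω) f ξ i (EtCoh.const X (ZMod N))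
  have h1 := fix_pull _ (ZMod N) i e _ (VanCyc.galGeom_jA _ σ) (toBase (ξ ≫ VanCyc.icl R f)) h (Φ z)
  exact Φ.injective ((hΦ σ z).trans (h1.trans (map_zsmul Φ e z).symm))

theorem stalk_psiGal_eq (h : Scal e (toBase (ξ ≫ VanCyc.icl R f) ≫ f) σ N i) :
    (EtCoh.stalk ξ).map (VanCyc.psiGal f σ i (EtCoh.const X (ZMod N))) = e • 𝟙 _ := by
  ext z
  refine (psiGal_apply f ξ N i e σ h z).trans ?_
  rfl

theorem stalk_psiGal_eq_id (h : Scal 1 (toBase (ξ ≫ VanCyc.icl R f) ≫ f) σ N i) :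
    (EtCoh.stalk ξ).map (VanCyc.psiGal f σ i (EtCoh.const X (ZMod N))) = 𝟙 _ :=
  (stalk_psiGal_eq f ξ N i 1 σ h).trans (one_zsmul _)

end Groth.Agent.Vancyc.H681.ScalPsi
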