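import Groth.Agent.Vancyc.H681.Restr
import Groth.Agent.Lefpen.H370.CohCmp
import Groth.Agent.Etcore.HpullViaEq

/-!
# Automorphisms acting by a scalar on the cohomology of the geometric generic fibre, constant coefficients

`Scal e s σ N n` : `σ` acts as multiplication by `e : ℤ` on `H^n(P_Ω, ℤ/N)`, `s : P ⟶ Spec R`.
* `of_surjective` : if `H^n(X_Ω) → H^n(P_Ω)` is surjective then `Scal e f ⇒ Scal e (g ≫ f)`;
* `of_isIso` : transport along isomorphisms;
* `of_galH`, `galM_eq`, `hpVia_pull_eq` : comparison with `VanCyc.galH` and `Restr.galM`.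
-/

set_option autoImplicit false
universe u
open CategoryTheory CategoryTheory.Limits AlgebraicGeometry
open scoped Groth.Agent.Etcore.EtInst
open Groth.Agent.Etcore.EtInst Groth.Agent.Etcore.HpullCalc Groth.Agent.Etcore.HpVia
  Groth.Agent.Etcore.PullCoh Groth.Agent.Etcore.HC Groth.Agent.Lefpen.H370.CohCmp

namespace Groth.Agent.Vancyc.H681.ScalC

open Groth.Agent.Vancyc.H681.Restr

section abs

variable {M X : Scheme.{u}} (m : M ⟶ M) (t : M ⟶ X) (w : m ≫ t = t) (A : Type) [AddCommGroup A] (n : ℕ)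
  (e : ℤ)

theorem fix_of_HC (h : ∀ z, HC A m n z = e • z) (y : HH M ((EtCoh.pull t).obj (EtCoh.const X A)) n) :
    hpVia m t t w (EtCoh.const X A) n y = e • y :=
  (cst t A n).injective ((cst_hpVia m t t w A n y).trans ((h _).trans (map_zsmul (cst t A n) e y).symm))

theorem HC_of_fix (h : ∀ y, hpVia m t t w (EtCoh.const X A) n y = e • y)
    (z : HH M (EtCoh.const M A) n) : HC A m n z = e • z := by
  obtain ⟨y, rfl⟩ := (cst t A n).surjective z
  exact (cst_hpVia m t t w A n y).symm.trans ((congrArg (cst t A n) (h y)).trans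
    (map_zsmul (cst t A n) e y))

theorem fix_pull {P : Scheme.{u}} (t : M ⟶ P) (w : m ≫ t = t) (p : P ⟶ X)
    (h : ∀ z, HC A m n z = e • z)
    (y : HH M ((EtCoh.pull t).obj ((EtCoh.pull p).obj (EtCoh.const X A))) n) :
    hpVia m t t w ((EtCoh.pull p).obj (EtCoh.const X A)) n y = e • y :=
  (HHmap_bijective ((EtCoh.pull t).map (EtCore.pullConst p A).hom) n).1
    ((hpVia_map m t t w (EtCore.pullConst p A).hom n y).symm.trans
      ((fix_of_HC m t w A n e h _).trans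
        (map_zsmul (HHmap ((EtCoh.pull t).map (EtCore.pullConst p A).hom) n) e y).symm))

end abs

variable {R : Type u} [CommRing R] {K : Type u} [Field K] [Algebra R K] {Ω : Type u} [Field Ω]
  [Algebra K Ω] [Algebra R Ω] [IsScalarTower R K Ω]
  {X P : Scheme.{u}} (e : ℤ)

/-- `σ` acts as multiplication by `e` on `H^n(P_Ω, ℤ/N)`. -/
def Scal (s : P ⟶ Spec (CommRingCat.of R)) (σ : Ω ≃ₐ[K] Ω) (N n : ℕ) : Prop :=
  ∀ z : HH (VanCyc.fib R s Ω) (EtCoh.const _ (ZMod N)) n, HC (ZMod N) (VanCyc.galGeom s σ) n z = e • z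

variable (f : X ⟶ Spec (CommRingCat.of R)) (g : P ⟶ X) (σ : Ω ≃ₐ[K] Ω) (N n : ℕ)

theorem of_surjective (h : Scal e f σ N n)
    (hs : Function.Surjective (HC (ZMod N) (fibX Ω f g) n)) : Scal e (g ≫ f) σ N n := by
  intro z
  obtain ⟨y, rfl⟩ := hs z
  have h1 := HC_HC (ZMod N) (VanCyc.galGeom (g ≫ f) σ) (fibX Ω f g)
    (VanCyc.galGeom (g ≫ f) σ ≫ fibX Ω f g) rfl n y
  have h2 := HC_HC (ZMod N) (fibX Ω f g) (VanCyc.galGeom f σ)
    (VanCyc.galGeom (g ≫ f) σ ≫ fibX Ω f g) (galGeom_fibX f g σ).symm n y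
  rw [h y] at h2
  exact h1.trans (h2.symm.trans (map_zsmul (HC (ZMod N) (fibX Ω f g) n) e y))

theorem isIso_fibX [IsIso g] : IsIso (fibX Ω f g) := by
  rw [fibX]
  infer_instance

theorem of_isIso [IsIso g] (h : Scal e f σ N n) : Scal e (g ≫ f) σ N n := by
  have h1 := isIso_fibX (Ω := Ω) f g
  exact of_surjective e f g σ N n h
    ((bijective_HC_iff (ZMod N) (fibX Ω f g) n).2 (bijective_hp_of_isIso (fibX Ω f g) _ n)).2

theorem of_isIso' [IsIso g] {s : P ⟶ Spec (CommRingCat.of R)} (hs : g ≫ f = s) (h : Scal e f σ N n) :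
    Scal e s σ N n := by
  subst hs
  exact of_isIso e f g σ N n h

theorem galM_eq [PreservesFiniteLimits (EtCoh.pull (VanCyc.galGeom (g ≫ f) σ))]
    (h : Scal e (g ≫ f) σ N n) :
    ∀ y, galM f g σ (EtCoh.const X (ZMod N)) n y = e • y :=
  fix_of_HC (VanCyc.galGeom (g ≫ f) σ) (VanCyc.jA R (g ≫ f) Ω ≫ g)
    (galGeom_jA_comp f g σ) (ZMod N) n e h

theorem galH_apply [PreservesFiniteLimits (EtCoh.pull (VanCyc.galGeom f σ))] (F : EtCoh.Ab X)
    (x : HH (VanCyc.fib R f Ω) ((EtCoh.pull (VanCyc.jA R f Ω)).obj F) n) :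
    @Eq (HH (VanCyc.fib R f Ω) ((EtCoh.pull (VanCyc.jA R f Ω)).obj F) n)
      (VanCyc.galH f σ F n x)
      (hpVia (VanCyc.galGeom f σ) (VanCyc.jA R f Ω) (VanCyc.jA R f Ω) (VanCyc.galGeom_jA f σ) F n x) :=
  HpullVia_apply_eq_hpVia _ _ _ _ _ _ x

theorem of_galH [PreservesFiniteLimits (EtCoh.pull (VanCyc.galGeom f σ))]
    (h : ∀ y : HH (VanCyc.fib R f Ω) ((EtCoh.pull (VanCyc.jA R f Ω)).obj (EtCoh.const X (ZMod N))) n,
      @Eq (HH (VanCyc.fib R f Ω) ((EtCoh.pull (VanCyc.jA R f Ω)).obj (EtCoh.const X (ZMod N))) n)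
      (VanCyc.galH f σ (EtCoh.const X (ZMod N)) n y) (e • y)) : Scal e f σ N n :=
  HC_of_fix (VanCyc.galGeom f σ) (VanCyc.jA R f Ω) (VanCyc.galGeom_jA f σ) (ZMod N) n e
    (fun y => (galH_apply f σ n _ y).symm.trans (h y))

theorem of_galH_id [PreservesFiniteLimits (EtCoh.pull (VanCyc.galGeom f σ))]
    (h : VanCyc.galH f σ (EtCoh.const X (ZMod N)) n = AddMonoidHom.id _) : Scal 1 f σ N n :=
  HC_of_fix (VanCyc.galGeom f σ) (VanCyc.jA R f Ω) (VanCyc.galGeom_jA f σ) (ZMod N) n 1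
    (fun y => (galH_apply f σ n _ y).symm.trans ((DFunLike.congr_fun h y).trans (one_zsmul y).symm))

end Groth.Agent.Vancyc.H681.ScalC
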