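import Groth.Prelude.Def_VanCyc
import Groth.Agent.Etcore.HpVia

/-!
# Restriction of classes on the geometric generic fibre along `g : P ⟶ X`

* `fibX f g : fib R (g ≫ f) Ω ⟶ fib R f Ω`, compatible with `jA` and `galGeom`;
* `resM f g F n : H^n(X_Ω, jbar^* F) →+ H^n(P_Ω, (jbar ≫ g)^* F)`, the pull back;
* `resM_galH`: `resM (galH f τ F n a) = galM f g τ F n (resM a)`, with `galM` the relative pull back
  along `galGeom (g ≫ f) τ`;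
* `comp_eq_zero`: the formal part of `(σ - 1) (τ - 1) = 0`.
-/

set_option autoImplicit false
universe u
open CategoryTheory CategoryTheory.Limits AlgebraicGeometry
open scoped Groth.Agent.Etcore.EtInst
open Groth.Agent.Etcore.EtInst Groth.Agent.Etcore.HpullCalc Groth.Agent.Etcore.HpVia

namespace Groth.Agent.Vancyc.H681.Restr

variable {R : Type u} [CommRing R] {K : Type u} [Field K] [Algebra R K] {Ω : Type u} [Field Ω]
  [Algebra K Ω] [Algebra R Ω] [IsScalarTower R K Ω]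
  {X P : Scheme.{u}} (f : X ⟶ Spec (CommRingCat.of R)) (g : P ⟶ X)

variable (Ω) in
/-- The map `P_Ω ⟶ X_Ω`. -/
noncomputable def fibX : VanCyc.fib R (g ≫ f) Ω ⟶ VanCyc.fib R f Ω :=
  pullback.map (g ≫ f) (VanCyc.toS R Ω) f (VanCyc.toS R Ω) g (𝟙 _) (𝟙 _)
    (Category.comp_id _) (by rw [Category.comp_id, Category.id_comp])

theorem fibX_jA : fibX Ω f g ≫ VanCyc.jA R f Ω = VanCyc.jA R (g ≫ f) Ω ≫ g :=
  pullback.lift_fst _ _ _

theorem fibX_fibStr : fibX Ω f g ≫ VanCyc.fibStr R f Ω = VanCyc.fibStr R (g ≫ f) Ω :=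
  (pullback.lift_snd _ _ _).trans (Category.comp_id _)

theorem galGeom_snd (σ : Ω ≃ₐ[K] Ω) : VanCyc.galGeom f σ ≫ VanCyc.fibStr R f Ω =
    VanCyc.fibStr R f Ω ≫ Spec.map (CommRingCat.ofHom (σ : Ω →+* Ω)) :=
  pullback.lift_snd _ _ _

theorem galGeom_fibX (σ : Ω ≃ₐ[K] Ω) : VanCyc.galGeom (g ≫ f) σ ≫ fibX Ω f g =
    fibX Ω f g ≫ VanCyc.galGeom f σ := by
  apply pullback.hom_ext
  · have h1 : fibX Ω f g ≫ pullback.fst f (VanCyc.toS R Ω) = VanCyc.jA R (g ≫ f) Ω ≫ g :=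
      fibX_jA f g
    have h2 : VanCyc.galGeom f σ ≫ pullback.fst f (VanCyc.toS R Ω) = VanCyc.jA R f Ω :=
      VanCyc.galGeom_jA f σ
    have h3 : VanCyc.galGeom (g ≫ f) σ ≫ VanCyc.jA R (g ≫ f) Ω = VanCyc.jA R (g ≫ f) Ω :=
      VanCyc.galGeom_jA (g ≫ f) σ
    rw [Category.assoc, Category.assoc, h1, h2, reassoc_of% h3]
    exact h1.symm
  · have h1 : fibX Ω f g ≫ pullback.snd f (VanCyc.toS R Ω) = VanCyc.fibStr R (g ≫ f) Ω :=
      fibX_fibStr f g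
    have h2 : VanCyc.galGeom f σ ≫ pullback.snd f (VanCyc.toS R Ω) =
        VanCyc.fibStr R f Ω ≫ Spec.map (CommRingCat.ofHom (σ : Ω →+* Ω)) := galGeom_snd f σ
    have h3 : VanCyc.galGeom (g ≫ f) σ ≫ VanCyc.fibStr R (g ≫ f) Ω =
        VanCyc.fibStr R (g ≫ f) Ω ≫ Spec.map (CommRingCat.ofHom (σ : Ω →+* Ω)) :=
      galGeom_snd (g ≫ f) σ
    rw [Category.assoc, Category.assoc, h1, h2, h3, ← Category.assoc]
    exact congrArg (fun k => k ≫ _) h1.symm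

theorem galGeom_jA_comp (σ : Ω ≃ₐ[K] Ω) :
    VanCyc.galGeom (g ≫ f) σ ≫ VanCyc.jA R (g ≫ f) Ω ≫ g = VanCyc.jA R (g ≫ f) Ω ≫ g := by
  rw [← Category.assoc, VanCyc.galGeom_jA]

/-- Restriction `H^n(X_Ω, jbar^* F) → H^n(P_Ω, (jbar ≫ g)^* F)`. -/
noncomputable def resM [PreservesFiniteLimits (EtCoh.pull (fibX Ω f g))] (F : EtCoh.Ab X) (n : ℕ) :
    HH (VanCyc.fib R f Ω) ((EtCoh.pull (VanCyc.jA R f Ω)).obj F) n →+
      HH (VanCyc.fib R (g ≫ f) Ω) ((EtCoh.pull (VanCyc.jA R (g ≫ f) Ω ≫ g)).obj F) n :=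
  hpVia (fibX Ω f g) (VanCyc.jA R f Ω) (VanCyc.jA R (g ≫ f) Ω ≫ g) (fibX_jA f g) F n

/-- The action of `σ` on `H^n(P_Ω, (jbar ≫ g)^* F)`. -/
noncomputable def galM (σ : Ω ≃ₐ[K] Ω) [PreservesFiniteLimits (EtCoh.pull (VanCyc.galGeom (g ≫ f) σ))]
    (F : EtCoh.Ab X) (n : ℕ) :
    HH (VanCyc.fib R (g ≫ f) Ω) ((EtCoh.pull (VanCyc.jA R (g ≫ f) Ω ≫ g)).obj F) n →+
      HH (VanCyc.fib R (g ≫ f) Ω) ((EtCoh.pull (VanCyc.jA R (g ≫ f) Ω ≫ g)).obj F) n :=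
  hpVia (VanCyc.galGeom (g ≫ f) σ) (VanCyc.jA R (g ≫ f) Ω ≫ g) (VanCyc.jA R (g ≫ f) Ω ≫ g)
    (galGeom_jA_comp f g σ) F n

theorem resM_galH (hlex : ∀ {A B : Scheme.{u}} (h : A ⟶ B), PreservesFiniteLimits (EtCoh.pull h))
    (σ : Ω ≃ₐ[K] Ω) [PreservesFiniteLimits (EtCoh.pull (VanCyc.galGeom f σ))]
    [PreservesFiniteLimits (EtCoh.pull (fibX Ω f g))]
    [PreservesFiniteLimits (EtCoh.pull (VanCyc.galGeom (g ≫ f) σ))]
    (F : EtCoh.Ab X) (n : ℕ)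
    (a : HH (VanCyc.fib R f Ω) ((EtCoh.pull (VanCyc.jA R f Ω)).obj F) n) :
    resM f g F n (VanCyc.galH f σ F n a) = galM f g σ F n (resM f g F n a) := by
  have i1 : PreservesFiniteLimits (EtCoh.pull (fibX Ω f g ≫ VanCyc.galGeom f σ)) := hlex _
  have e1 := hpVia_hpVia (fibX Ω f g) (VanCyc.galGeom f σ) (VanCyc.jA R f Ω)
    (fibX Ω f g ≫ VanCyc.galGeom f σ) (VanCyc.jA R f Ω) (VanCyc.jA R (g ≫ f) Ω ≫ g) rfl
    (VanCyc.galGeom_jA f σ) (fibX_jA f g)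
    (by rw [Category.assoc, VanCyc.galGeom_jA, fibX_jA]) F n a
  have e2 := hpVia_hpVia (VanCyc.galGeom (g ≫ f) σ) (fibX Ω f g) (VanCyc.jA R f Ω)
    (fibX Ω f g ≫ VanCyc.galGeom f σ) (VanCyc.jA R (g ≫ f) Ω ≫ g) (VanCyc.jA R (g ≫ f) Ω ≫ g)
    (galGeom_fibX f g σ) (fibX_jA f g) (galGeom_jA_comp f g σ)
    (by rw [Category.assoc, VanCyc.galGeom_jA, fibX_jA]) F n a
  exact e1.trans e2.symm

/-- Formal part: let `P i ⟶ X` be a family such that classes which die on all `P i` are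
restricted from `X`, and such that `τ` acts trivially on `H^n((P i)_Ω)`.  Then
`(σ - 1) (τ - 1) = 0` on `H^n(X_Ω)`. -/
theorem comp_eq_zero (hlex : ∀ {A B : Scheme.{u}} (h : A ⟶ B), PreservesFiniteLimits (EtCoh.pull h))
    {ι : Type*} (P : ι → Scheme.{u}) (g : ∀ i, P i ⟶ X)
    (F : EtCoh.Ab X) (n : ℕ) [PreservesFiniteLimits (EtCoh.pull (VanCyc.jA R f Ω))]
    [∀ i, PreservesFiniteLimits (EtCoh.pull (fibX Ω f (g i)))]
    (hK : ∀ a : HH (VanCyc.fib R f Ω) ((EtCoh.pull (VanCyc.jA R f Ω)).obj F) n,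
      (∀ i, resM f (g i) F n a = 0) → ∃ b : HH X F n, hp (VanCyc.jA R f Ω) F n b = a)
    (σ τ : Ω ≃ₐ[K] Ω) [PreservesFiniteLimits (EtCoh.pull (VanCyc.galGeom f σ))]
    [PreservesFiniteLimits (EtCoh.pull (VanCyc.galGeom f τ))]
    [∀ i, PreservesFiniteLimits (EtCoh.pull (VanCyc.galGeom (g i ≫ f) τ))]
    (hL : ∀ i (y : HH (VanCyc.fib R (g i ≫ f) Ω)
      ((EtCoh.pull (VanCyc.jA R (g i ≫ f) Ω ≫ g i)).obj F) n), galM f (g i) τ F n y = y) :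
    (VanCyc.galH f σ F n - AddMonoidHom.id _).comp (VanCyc.galH f τ F n - AddMonoidHom.id _) = 0 := by
  ext a
  obtain ⟨b, hb⟩ := hK (VanCyc.galH f τ F n a - a) (fun i => by
    rw [map_sub, resM_galH f (g i) hlex τ F n a, hL, sub_self])
  have h1 : VanCyc.galH f σ F n (hp (VanCyc.jA R f Ω) F n b) = hp (VanCyc.jA R f Ω) F n b :=
    hpVia_hp (VanCyc.galGeom f σ) (VanCyc.jA R f Ω) (VanCyc.jA R f Ω) (VanCyc.galGeom_jA f σ) F n b
  change VanCyc.galH f σ F n (VanCyc.galH f τ F n a - a) - (VanCyc.galH f τ F n a - a) = 0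
  rw [← hb, h1, sub_self]

end Groth.Agent.Vancyc.H681.Restr
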