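import Mathlib.Algebra.Homology.ShortComplex.Ab
import Mathlib.Algebra.Homology.ShortComplex.HomologicalComplex

/-!
# Quasi-isomorphisms of short complexes of abelian groups, elementwise
-/

set_option autoImplicit false
universe w
open CategoryTheory CategoryTheory.Limits

namespace Groth.Agent.Vancyc.H681.AbHom

theorem exists_cycle (S : ShortComplex AddCommGrpCat.{w}) (x : S.X₂) (hx : S.g x = 0) :
    ∃ z : S.cycles, S.iCycles z = x :=
  ⟨S.abCyclesIso.inv ⟨x, hx⟩, S.abCyclesIso_inv_apply_iCycles _⟩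

theorem iCycles_inj (S : ShortComplex AddCommGrpCat.{w}) {z z' : S.cycles}
    (h : S.iCycles z = S.iCycles z') : z = z' :=
  (AddCommGrpCat.mono_iff_injective S.iCycles).1 inferInstance h

theorem exists_toCycles (S : ShortComplex AddCommGrpCat.{w}) (z : S.cycles) (h : S.homologyπ z = 0) :
    ∃ t : S.X₁, S.toCycles t = z :=
  (ShortComplex.ab_exact_iff _).1
    (ShortComplex.exact_of_g_is_cokernel (ShortComplex.mk S.toCycles S.homologyπ S.toCycles_comp_homologyπ)
      S.homologyIsCokernel) z h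

theorem iCycles_toCycles (S : ShortComplex AddCommGrpCat.{w}) (t : S.X₁) :
    S.iCycles (S.toCycles t) = S.f t :=
  ConcreteCategory.congr_hom S.toCycles_i t

theorem homologyπ_toCycles (S : ShortComplex AddCommGrpCat.{w}) (t : S.X₁) :
    S.homologyπ (S.toCycles t) = 0 :=
  ConcreteCategory.congr_hom S.toCycles_comp_homologyπ t

theorem g_iCycles (S : ShortComplex AddCommGrpCat.{w}) (z : S.cycles) : S.g (S.iCycles z) = 0 :=
  ConcreteCategory.congr_hom S.iCycles_g z

variable {S S' : ShortComplex AddCommGrpCat.{w}} (f : S ⟶ S')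

theorem iCycles_cyclesMap (z : S.cycles) :
    S'.iCycles (ShortComplex.cyclesMap f z) = f.τ₂ (S.iCycles z) :=
  ConcreteCategory.congr_hom (ShortComplex.cyclesMap_i f) z

theorem homologyMap_homologyπ (z : S.cycles) :
    ShortComplex.homologyMap f (S.homologyπ z) = S'.homologyπ (ShortComplex.cyclesMap f z) :=
  ConcreteCategory.congr_hom (ShortComplex.homologyπ_naturality f) z

theorem surj (h : IsIso (ShortComplex.homologyMap f)) (z : S'.X₂) (hz : S'.g z = 0) :
    ∃ (b : S.X₂) (t : S'.X₁), S.g b = 0 ∧ z = f.τ₂ b + S'.f t := by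
  obtain ⟨z', rfl⟩ := exists_cycle S' z hz
  obtain ⟨w, hw⟩ := ((ConcreteCategory.isIso_iff_bijective _).1 h).2 (S'.homologyπ z')
  obtain ⟨b', rfl⟩ := (AddCommGrpCat.epi_iff_surjective S.homologyπ).1 inferInstance w
  have h1 : S'.homologyπ (z' - ShortComplex.cyclesMap f b') = 0 := by
    rw [map_sub, ← hw, homologyMap_homologyπ, sub_self]
  obtain ⟨t, ht⟩ := exists_toCycles S' _ h1
  refine ⟨S.iCycles b', t, g_iCycles S b', ?_⟩
  rw [← iCycles_cyclesMap, ← iCycles_toCycles, ht, map_sub]
  abel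

theorem inj (h : IsIso (ShortComplex.homologyMap f)) (b : S.X₂) (hb : S.g b = 0) (t : S'.X₁)
    (e : f.τ₂ b = S'.f t) : ∃ u : S.X₁, b = S.f u := by
  obtain ⟨b', rfl⟩ := exists_cycle S b hb
  have h1 : ShortComplex.cyclesMap f b' = S'.toCycles t := by
    apply iCycles_inj
    rw [iCycles_cyclesMap, iCycles_toCycles, e]
  have h2 : ShortComplex.homologyMap f (S.homologyπ b') = ShortComplex.homologyMap f 0 := by
    rw [homologyMap_homologyπ, h1, homologyπ_toCycles, map_zero]
  have h3 := ((ConcreteCategory.isIso_iff_bijective _).1 h).1 h2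
  obtain ⟨u, hu⟩ := exists_toCycles S b' h3
  exact ⟨u, by rw [← iCycles_toCycles, hu]⟩

end Groth.Agent.Vancyc.H681.AbHom
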