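import Groth.Agent.EtpbcB.EdgeLemma

/-!
# The kernel of the edge map to the higher direct image (abstract form)

`adj : L ⊣ R`, `L` exact.  A class `a ∈ Ext^{n+1}(L A, N)` which is killed by `L (p i)` for a jointly
epimorphic family `p i : P i ⟶ A` is in the image of the edge map
`Ext^{n+1}(A, R N) → Ext^{n+1}(L A, N)`, provided `Ext^b(A, R^j R N) = 0` for `b, j ≥ 1`, `b + j = n + 1`.
(Leray spectral sequence; proved by dimension shifting.)
-/

set_option autoImplicit false

universe w w' v v' u u' t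

open CategoryTheory CategoryTheory.Limits CategoryTheory.Abelian

namespace Groth.Agent.Vancyc.H681.EdgeKer

open Groth.Agent.EtpbcB.EdgeLemma Groth.Agent

variable {C : Type u} [Category.{v} C] [Abelian C] [HasExt.{w} C]
variable {D : Type u'} [Category.{v'} D] [Abelian D] [HasExt.{w'} D]
variable {L : C ⥤ D} {R : D ⥤ C} [L.Additive] [PreservesFiniteLimits L] [PreservesFiniteColimits L]
variable [R.Additive] [PreservesFiniteLimits R] [EnoughInjectives D]
variable (adj : L ⊣ R)

omit [HasExt.{w} C] [HasExt.{w'} D] in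
theorem subsingleton_ext_of_iso {C : Type u} [Category.{v} C] [Abelian C] [HasExt.{w} C]
    {A B B' : C} (e : B ≅ B') (b : ℕ) (h : Subsingleton (Ext.{w} A B b)) :
    Subsingleton (Ext.{w} A B' b) := by
  have hx : ∀ x : Ext.{w} A B' b, x = 0 := fun x => by
    have h0 : x.comp (Ext.mk₀ e.inv) (add_zero b) = 0 := Subsingleton.elim _ _
    have : x = (x.comp (Ext.mk₀ e.inv) (add_zero b)).comp (Ext.mk₀ e.hom) (add_zero b) := by
      rw [Ext.comp_assoc_of_third_deg_zero, Ext.mk₀_comp_mk₀, e.inv_hom_id, Ext.comp_mk₀_id]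
    rw [this, h0, Ext.zero_comp]
  exact ⟨fun x y => by rw [hx x, hx y]⟩

/-- **Kernel of the edge map.** -/
theorem exists_edge_eq {A : C} {ι : Type t} (P : ι → C) (p : ∀ i, P i ⟶ A)
    (hp : ∀ (B : C) (g : A ⟶ B), (∀ i, p i ≫ g = 0) → g = 0) (n : ℕ) : ∀ (N : D)
    (_ : ∀ j b, b + j + 1 = n → Subsingleton (Ext.{w} A ((R.rightDerived (j + 1)).obj N) (b + 1)))
    (a : Ext.{w'} (L.obj A) N (n + 1))
    (_ : ∀ i, (Ext.mk₀ (L.map (p i))).comp a (zero_add (n + 1)) = 0),
    ∃ c : Ext.{w} A (R.obj N) (n + 1), edge adj A N (n + 1) c = a := by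
  induction n with
  | zero =>
    intro N _ a ha
    let I : InjectivePresentation N := Classical.arbitrary _
    let S := ShortComplex.mk _ _ (cokernel.condition I.f)
    have hI : Injective S.X₂ := I.injective
    have hS : S.ShortExact := { exact := ShortComplex.exact_cokernel I.f }
    obtain ⟨g, rfl⟩ := Ext.covariant_sequence_exact₁ (L.obj A) hS a
      (Ext.eq_zero_of_injective _) (rfl : 0 + 1 = 1)
    obtain ⟨g, rfl⟩ := (Ext.mk₀_bijective _ _).2 g
    have hloc : ∀ i, p i ≫ adj.homEquiv A S.X₃ g ≫ cokernel.π (kap R S) = 0 := fun i => by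
      have h1 := ha i
      rw [← Ext.comp_assoc_of_second_deg_zero, Ext.mk₀_comp_mk₀] at h1
      obtain ⟨u, hu⟩ := Ext.covariant_sequence_exact₃ (L.obj (P i)) hS _ (rfl : 0 + 1 = 1) h1
      obtain ⟨u, rfl⟩ := (Ext.mk₀_bijective _ _).2 u
      rw [Ext.mk₀_comp_mk₀] at hu
      have hu2 := (Ext.mk₀_bijective _ _).1 hu
      have hu3 : (adj.homEquiv (P i) S.X₂ u) ≫ R.map S.g = p i ≫ adj.homEquiv A S.X₃ g := by
        rw [← adj.homEquiv_naturality_right, hu2, adj.homEquiv_naturality_left]
      rw [← Category.assoc, ← hu3, ← π_kap (R := R) (S := S), Category.assoc, Category.assoc]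
      erw [cokernel.condition (kap R S)]
      rw [comp_zero, comp_zero]
    have h0 : adj.homEquiv A S.X₃ g ≫ cokernel.π (kap R S) = 0 := hp _ _ hloc
    obtain ⟨e, he⟩ : ∃ e : A ⟶ Bc R S, e ≫ kap R S = adj.homEquiv A S.X₃ g := by
      have := mono_kap (R := R) hS
      have hK := shortExact_K (R := R) hS
      have hm : Mono (K R S).f := hK.mono_f
      exact ⟨hK.exact.lift _ h0, hK.exact.lift_f _ h0⟩
    refine ⟨(Ext.mk₀ e).comp (shortExact_T (R := R) hS).extClass (zero_add 1), ?_⟩
    have := edge_delta adj hS A 0 (Ext.mk₀ e)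
    rw [Ext.mk₀_comp_mk₀, edge_mk₀, he, Equiv.symm_apply_apply] at this
    exact this
  | succ n ih =>
    intro N hN a ha
    let I : InjectivePresentation N := Classical.arbitrary _
    let S := ShortComplex.mk _ _ (cokernel.condition I.f)
    have hI : Injective S.X₂ := I.injective
    have hS : S.ShortExact := { exact := ShortComplex.exact_cokernel I.f }
    obtain ⟨g, rfl⟩ := Ext.covariant_sequence_exact₁ (L.obj A) hS a
      (Ext.eq_zero_of_injective _) (rfl : n + 1 + 1 = n + 1 + 1)
    obtain ⟨e⟩ := nonempty_iso_coker (R := R) hS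
    have hg : ∀ i, (Ext.mk₀ (L.map (p i))).comp g (zero_add (n + 1)) = 0 := fun i => by
      have h1 := ha i
      rw [← Ext.comp_assoc (Ext.mk₀ (L.map (p i))) g hS.extClass (zero_add (n + 1)) rfl
        (by omega)] at h1
      obtain ⟨u, hu⟩ := Ext.covariant_sequence_exact₃ (L.obj (P i)) hS _
        (rfl : n + 1 + 1 = n + 1 + 1) h1
      rw [← hu, Ext.eq_zero_of_injective u, Ext.zero_comp]
    obtain ⟨c, hc⟩ := ih S.X₃ (fun j b hjb => by
      obtain ⟨e''⟩ := Etcore.DerLES.nonempty_iso_of_injective R hS j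
      exact subsingleton_ext_of_iso e'' _ (hN (j + 1) b (by omega))) g hg
    have hK : Subsingleton (Ext.{w} A (cokernel (kap R S)) (n + 1)) :=
      subsingleton_ext_of_iso e _ (hN 0 n (by omega))
    obtain ⟨d, hd⟩ := Ext.covariant_sequence_exact₂ A (shortExact_K (R := R) hS) c
      (Subsingleton.elim _ _)
    refine ⟨d.comp (shortExact_T (R := R) hS).extClass rfl, ?_⟩
    rw [edge_delta adj hS A (n + 1) d, ← hc]
    congr 2

end Groth.Agent.Vancyc.H681.EdgeKer
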