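import Groth.Agent.Etcore.LocMap
import Groth.Agent.Etcore.HpullCalc

/-!
# Bridge between the two families of short instances (`FastInst`, `EtInst`) for the localization map

`toConst_comp_eq_zero`: a class on `X` which dies on an étale `V ⟶ X` is killed by `Z_V ⟶ ℤ_X`.
-/

set_option autoImplicit false
universe u

open CategoryTheory CategoryTheory.Limits AlgebraicGeometry Opposite CategoryTheory.Abelian

namespace Groth.Agent.Vancyc.H681.LocBridge

open Groth.Agent Groth.Agent.Etcore Groth.Agent.Etcore.LocSec Groth.Agent.Etcore.ZU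
  Groth.Agent.Etcore.Loc Groth.Agent.Etcore.LocMap

section Fast

open scoped Groth.Agent.Etcore.FastInst

variable {X Y : Scheme.{u}} (f : X ⟶ Y)

theorem comp_congr (G : EtCoh.Ab Y) (n : ℕ) (x : Ext (EtCoh.const Y ℤ) G n)
    (c : EtCoh.const X ℤ ⟶ (EtCoh.pull f).obj (EtCoh.const Y ℤ))
    (h : c = cmap (isGen_one X) f (EtCore.bcTopIso f).inv (one Y)) :
    (Ext.mk₀ (cmap (isGen_one X) f (EtCore.bcTopIso f).inv (one Y))).comp
      (x.mapExactFunctor (EtCoh.pull f)) (zero_add n) =
    (Ext.mk₀ c).comp (x.mapExactFunctor (EtCoh.pull f)) (zero_add n) := by rw [h]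

theorem HP_eq (G : EtCoh.Ab Y) (n : ℕ) (x : Ext (EtCoh.const Y ℤ) G n) :
    HP f G n x = (Ext.mk₀ (EtCore.pullConst f ℤ).inv).comp (x.mapExactFunctor (EtCoh.pull f))
      (zero_add n) :=
  (extPull_apply (isGen_one X) f (EtCore.bcTopIso f).inv (one Y) G n x).trans
    (comp_congr f G n x (EtCore.pullConst f ℤ).inv (pullConst_inv f))

theorem fast_eq_zero (V : X.Etale) (N : EtCoh.Ab X) (n : ℕ) (x : Ext (EtCoh.const X ℤ) N n)
    (h : (Ext.mk₀ (EtCore.pullConst V.hom ℤ).inv).comp (x.mapExactFunctor (EtCoh.pull V.hom))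
      (zero_add n) = 0) :
    (Ext.mk₀ (toConst V)).comp x (zero_add n) = 0 :=
  (locMap_bijective V N n).1 ((HP_eq_locMap V N n x).symm.trans (((HP_eq V.hom N n x).trans h).trans
    (map_zero _).symm))

end Fast

section Et

open scoped Groth.Agent.Etcore.EtInst
open Groth.Agent.Etcore.EtInst Groth.Agent.Etcore.HpullCalc

variable {X : Scheme.{u}}

theorem toConst_comp_eq_zero (V : X.Etale) (N : EtCoh.Ab X) [PreservesFiniteLimits (EtCoh.pull V.hom)]
    (n : ℕ) (x : HH X N n) (h : hp V.hom N n x = 0) :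
    (Ext.mk₀ (toConst V)).comp x (zero_add n) = 0 :=
  fast_eq_zero V N n x h

end Et

end Groth.Agent.Vancyc.H681.LocBridge
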