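import Groth.Agent.Vancyc.H681.EdgeKer
import Groth.Agent.Vancyc.H681.LocBridge
import Groth.Agent.Etbase.EtSite

/-!
# The kernel of the edge map on small étale sites

`exists_edge_eq_et`: `f : X ⟶ Y`, `a ∈ H^{n+1}(X, N)` such that every point of `Y` has an étale
neighbourhood `V ⟶ Y` with `a = 0` on `X ×_Y V`; if `H^b(Y, R^j f_* N) = 0` for `b, j ≥ 1`,
`b + j = n + 1`, then `a` comes from `H^{n+1}(Y, f_* N)`.
-/

set_option autoImplicit false
universe u

open CategoryTheory CategoryTheory.Limits AlgebraicGeometry Opposite CategoryTheory.Abelian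

namespace Groth.Agent.Vancyc.H681.EdgeKerEt

open Groth.Agent Groth.Agent.Etcore Groth.Agent.Etcore.LocSec Groth.Agent.Etcore.ZU
  Groth.Agent.Etcore.Loc Groth.Agent.Etcore.LocMap

variable {X Y : Scheme.{u}} (f : X ⟶ Y)

/-- A family of étale `Y`-schemes covering `Y` gives a jointly epimorphic family `Z_V ⟶ ℤ`. -/
theorem jointly_epi {ι : Type*} (V : ι → Y.Etale)
    (hV : ∀ y : Y, ∃ (i : ι) (v : (V i).left), (V i).hom v = y) (B : EtCoh.Ab Y)
    (g : EtCoh.const Y ℤ ⟶ B) (hg : ∀ i, toConst (V i) ≫ g = 0) : g = 0 := by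
  apply hext (isGen_one Y)
  have h1 : app g (EtCoh.top Y) (one Y) = 0 := by
    refine Etbase.EtSite.sect_eq_zero B (EtCoh.top Y) _ fun y => ?_
    obtain ⟨i, v, hv⟩ := hV y
    refine ⟨V i, toTop (V i), v, ?_, ?_⟩
    · have hw : (toTop (V i)).left = (V i).hom :=
        (Category.comp_id _).symm.trans (MorphismProperty.Over.w (toTop (V i)))
      rw [← hv, hw]
      rfl
    · have h2 := congrArg (fun k => app k (V i) (genE (V i))) (hg i)
      change app (toConst (V i) ≫ g) (V i) (genE (V i)) = 0 at h2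
      rw [app_comp, app_toConst, ← res_app] at h2
      exact h2
  rw [h1]
  rfl

/-- The morphism `Z_{X ×_Y V} ⟶ f⁻¹ Z_V`. -/
noncomputable def cV (V : Y.Etale) : ZE ((EtCoh.bc f).obj V) ⟶ (EtCoh.pull f).obj (ZE V) :=
  cmap (isGen_genE _) f (𝟙 _) (genE V)

theorem cV_isIso (V : Y.Etale) : IsIso (cV f V) := by
  have hgen : ∀ G : EtCoh.Ab X, Function.Bijective (fun φ : (EtCoh.pull f).obj (ZE V) ⟶ G =>
      app φ ((EtCoh.bc f).obj V) (un f (ZE V) V (genE V))) := by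
    intro G
    have e : (fun φ : (EtCoh.pull f).obj (ZE V) ⟶ G =>
        app φ ((EtCoh.bc f).obj V) (un f (ZE V) V (genE V))) =
        (fun ψ : ZE V ⟶ (EtCoh.push f).obj G => app ψ V (genE V)) ∘
          ((EtCoh.pullPushAdj f).homEquiv _ _) := by
      ext φ
      rw [Function.comp_apply, Adjunction.homEquiv_unit, app_comp]
      rfl
    rw [e]
    exact ((isGen_genE V) _).comp (Equiv.bijective _)
  have key : ∀ (G : EtCoh.Ab X) (φ : (EtCoh.pull f).obj (ZE V) ⟶ G),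
      app (cV f V ≫ φ) ((EtCoh.bc f).obj V) (genE ((EtCoh.bc f).obj V)) =
        app φ ((EtCoh.bc f).obj V) (un f (ZE V) V (genE V)) := by
    intro G φ
    rw [app_comp, cV, app_cmap, secPull_apply, res_id]
  have hbij : ∀ G : EtCoh.Ab X, Function.Bijective
      (fun φ : (EtCoh.pull f).obj (ZE V) ⟶ G => cV f V ≫ φ) := by
    intro G
    refine (Function.Bijective.of_comp_iff' ((isGen_genE ((EtCoh.bc f).obj V)) G) _).1 ?_
    have e : ((fun φ : ZE ((EtCoh.bc f).obj V) ⟶ G =>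
        φ.hom.app (op ((EtCoh.bc f).obj V)) (genE ((EtCoh.bc f).obj V))) ∘
        fun φ : (EtCoh.pull f).obj (ZE V) ⟶ G => cV f V ≫ φ) =
        (fun φ : (EtCoh.pull f).obj (ZE V) ⟶ G =>
      app φ ((EtCoh.bc f).obj V) (un f (ZE V) V (genE V))) := by
      ext φ
      exact key G φ
    erw [e]
    exact hgen G
  obtain ⟨r, hr⟩ := (hbij _).2 (𝟙 _)
  refine ⟨r, hr, (hbij _).1 ?_⟩
  change cV f V ≫ r ≫ cV f V = cV f V ≫ 𝟙 _
  change cV f V ≫ r = 𝟙 _ at hr
  rw [reassoc_of% hr, Category.comp_id]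

/-- The square `Z_{X ×_Y V} ⟶ f⁻¹ Z_V ⟶ f⁻¹ ℤ` and `Z_{X ×_Y V} ⟶ ℤ ⟶ f⁻¹ ℤ`. -/
theorem toConst_pullConst (V : Y.Etale) :
    toConst ((EtCoh.bc f).obj V) ≫ (EtCore.pullConst f ℤ).inv =
      cV f V ≫ (EtCoh.pull f).map (toConst V) := by
  rw [pullConst_inv, cV]
  exact precomp_aux (isGen_one X) f (isGen_genE _) (EtCore.bcTopIso f).inv (𝟙 _) (one Y) (genE V)
    (toTop V) (toConst V) (app_toConst V) (toTop ((EtCoh.bc f).obj V))
    (toConst ((EtCoh.bc f).obj V)) (app_toConst _) ((EtCore.bcTopIsTerminal f).hom_ext _ _)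

section Abs

universe w v₁ u₁

theorem comp_eq_zero_of_isIso {C : Type u₁} [Category.{v₁} C] [Abelian C] [HasExt.{w} C]
    {A B D E G : C} {n : ℕ} (t : A ⟶ B) (p : B ⟶ D) (c : A ⟶ E) [IsIso c] (q : E ⟶ D)
    (h : t ≫ p = c ≫ q) (a : Ext.{w} D G n)
    (h0 : (Ext.mk₀ t).comp ((Ext.mk₀ p).comp a (zero_add n)) (zero_add n) = 0) :
    (Ext.mk₀ q).comp a (zero_add n) = 0 := by
  rw [Ext.mk₀_comp_mk₀_assoc, h, ← Ext.mk₀_comp_mk₀_assoc] at h0
  have h2 : (Ext.mk₀ (inv c)).comp ((Ext.mk₀ c).comp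
      ((Ext.mk₀ q).comp a (zero_add n)) (zero_add n)) (zero_add n) =
      (Ext.mk₀ q).comp a (zero_add n) := by
    rw [Ext.mk₀_comp_mk₀_assoc, IsIso.inv_hom_id, Ext.mk₀_id_comp]
  rw [← h2, h0, Ext.comp_zero]

end Abs

open scoped Groth.Agent.Etcore.EtInst
open Groth.Agent.Etcore.EtInst Groth.Agent.Etcore.HpullCalc

theorem mk₀_map_toConst_comp (V : Y.Etale)
    [PreservesFiniteLimits (EtCoh.pull ((EtCoh.bc f).obj V).hom)] (N : EtCoh.Ab X) (n : ℕ)
    (a : Ext ((EtCoh.pull f).obj (EtCoh.const Y ℤ)) N n)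
    (h : hp ((EtCoh.bc f).obj V).hom N n
      ((Ext.mk₀ (EtCore.pullConst f ℤ).inv).comp a (zero_add n)) = 0) :
    (Ext.mk₀ ((EtCoh.pull f).map (toConst V))).comp a (zero_add n) = 0 := by
  have := cV_isIso f V
  exact comp_eq_zero_of_isIso (toConst ((EtCoh.bc f).obj V)) (EtCore.pullConst f ℤ).inv (cV f V)
    ((EtCoh.pull f).map (toConst V)) (toConst_pullConst f V) a
    (LocBridge.toConst_comp_eq_zero ((EtCoh.bc f).obj V) N n _ h)

/-- The edge map `H^n(Y, f_* N) → H^n(X, N)`. -/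
noncomputable def edgeHH [PreservesFiniteLimits (EtCoh.pull f)] (N : EtCoh.Ab X) (n : ℕ) :
    HH Y ((EtCoh.push f).obj N) n →+ HH X N n :=
  (HHmap ((EtCoh.pullPushAdj f).counit.app N) n).comp (hp f ((EtCoh.push f).obj N) n)

theorem edgeHH_apply [PreservesFiniteLimits (EtCoh.pull f)] (N : EtCoh.Ab X) (n : ℕ)
    (c : HH Y ((EtCoh.push f).obj N) n) :
    edgeHH f N n c = HHmap ((EtCoh.pullPushAdj f).counit.app N) n (hp f _ n c) := rfl

theorem edgeHH_eq [PreservesFiniteLimits (EtCoh.pull f)] (N : EtCoh.Ab X) (n : ℕ)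
    (c : HH Y ((EtCoh.push f).obj N) n) :
    edgeHH f N n c = (Ext.mk₀ (EtCore.pullConst f ℤ).inv).comp
      (EtpbcB.EdgeLemma.edge (EtCoh.pullPushAdj f) (EtCoh.const Y ℤ) N n c) (zero_add n) := by
  rw [EtpbcB.EdgeLemma.edge_apply, edgeHH_apply, hp_apply, HHmap_apply]
  exact Ext.comp_assoc_of_third_deg_zero _ _ _ _

omit f in
theorem surj_aux {C : Type*} [Category* C] [Abelian C] [HasExt.{u + 1} C] {A B N : C}
    (e : A ≅ B) (n : ℕ) (a : Ext.{u + 1} B N n) :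
    ∃ a' : Ext.{u + 1} A N n, (Ext.mk₀ e.inv).comp a' (zero_add n) = a :=
  ⟨(Ext.mk₀ e.hom).comp a (zero_add n), by
    rw [Ext.mk₀_comp_mk₀_assoc, e.inv_hom_id, Ext.mk₀_id_comp]⟩

end Groth.Agent.Vancyc.H681.EdgeKerEt
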