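import Groth.Agent.Vancyc.H681.EdgeKerEt
import Groth.Agent.EtpbcB.EdgeEt

/-!
# The kernel of the edge map on small étale sites (final form)

`exists_edge`: `f : X ⟶ Y`, `a ∈ H^{n+1}(X, N)` such that every point of `Y` has an étale
neighbourhood `V ⟶ Y` with `a = 0` on `X ×_Y V`; if `H^b(Y, R^j f_* N) = 0` for `b, j ≥ 1`,
`b + j = n + 1`, then `a` comes from `H^{n+1}(Y, f_* N)`.
-/

set_option autoImplicit false
universe u

open CategoryTheory CategoryTheory.Limits AlgebraicGeometry Opposite CategoryTheory.Abelian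

namespace Groth.Agent.Vancyc.H681.EdgeKerFin

open Groth.Agent Groth.Agent.Etcore Groth.Agent.Etcore.LocMap Groth.Agent.Vancyc.H681
  Groth.Agent.Vancyc.H681.EdgeKerEt

variable {X Y : Scheme.{u}} (f : X ⟶ Y)

theorem exists_edge_of_family [PreservesFiniteLimits (EtCoh.pull f)] (N : EtCoh.Ab X) (n : ℕ)
    (hN : ∀ j b, b + j + 1 = n →
      Subsingleton (EtCoh.H Y ((EtCoh.Rpush f (j + 1)).obj N) (b + 1)))
    (a' : Ext ((EtCoh.pull f).obj (EtCoh.const Y ℤ)) N (n + 1)) {ι : Type (u + 1)}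
    (P : ι → EtCoh.Ab Y) (p : ∀ i, P i ⟶ EtCoh.const Y ℤ)
    (hp : ∀ (B : EtCoh.Ab Y) (g : EtCoh.const Y ℤ ⟶ B), (∀ i, p i ≫ g = 0) → g = 0)
    (h : ∀ i, (Ext.mk₀ ((EtCoh.pull f).map (p i))).comp a' (zero_add (n + 1)) = 0) :
    ∃ c : Ext (EtCoh.const Y ℤ) ((EtCoh.push f).obj N) (n + 1),
      EtpbcB.EdgeLemma.edge (EtCoh.pullPushAdj f) (EtCoh.const Y ℤ) N (n + 1) c = a' :=
  EdgeKer.exists_edge_eq (EtCoh.pullPushAdj f) (A := EtCoh.const Y ℤ) P p hp n N hN a' h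

theorem exists_family (N : EtCoh.Ab X) (n : ℕ)
    (a' : Ext ((EtCoh.pull f).obj (EtCoh.const Y ℤ)) N (n + 1))
    (ha : ∀ y : Y, ∃ (V : Y.Etale) (v : V.left), V.hom v = y ∧
      (Ext.mk₀ ((EtCoh.pull f).map (toConst V))).comp a' (zero_add (n + 1)) = 0) :
    ∃ (ι : Type (u + 1)) (P : ι → EtCoh.Ab Y) (p : ∀ i, P i ⟶ EtCoh.const Y ℤ),
      (∀ (B : EtCoh.Ab Y) (g : EtCoh.const Y ℤ ⟶ B), (∀ i, p i ≫ g = 0) → g = 0) ∧
      (∀ i, (Ext.mk₀ ((EtCoh.pull f).map (p i))).comp a' (zero_add (n + 1)) = 0) := by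
  choose V v hv h0 using ha
  refine ⟨ULift.{u + 1} Y, fun y => ZE (V y.down), fun y => toConst (V y.down), ?_, ?_⟩
  · intro B g hg
    exact jointly_epi (fun i : ULift.{u + 1} Y => V i.down) (fun y => ⟨⟨y⟩, v y, hv y⟩) B g hg
  · intro i
    exact h0 i.down

theorem exists_edge_of_loc [PreservesFiniteLimits (EtCoh.pull f)] (N : EtCoh.Ab X) (n : ℕ)
    (hN : ∀ j b, b + j + 1 = n →
      Subsingleton (EtCoh.H Y ((EtCoh.Rpush f (j + 1)).obj N) (b + 1)))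
    (a' : Ext ((EtCoh.pull f).obj (EtCoh.const Y ℤ)) N (n + 1))
    (ha : ∀ y : Y, ∃ (V : Y.Etale) (v : V.left), V.hom v = y ∧
      (Ext.mk₀ ((EtCoh.pull f).map (toConst V))).comp a' (zero_add (n + 1)) = 0) :
    ∃ c : Ext (EtCoh.const Y ℤ) ((EtCoh.push f).obj N) (n + 1),
      EtpbcB.EdgeLemma.edge (EtCoh.pullPushAdj f) (EtCoh.const Y ℤ) N (n + 1) c = a' := by
  obtain ⟨ι, P, p, hp, h⟩ := exists_family f N n a' ha
  exact exists_edge_of_family f N n hN a' P p hp h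

theorem exists_edge [PreservesFiniteLimits (EtCoh.pull f)] (N : EtCoh.Ab X) (n : ℕ)
    (hN : ∀ j b, b + j + 1 = n →
      Subsingleton (EtCoh.H Y ((EtCoh.Rpush f (j + 1)).obj N) (b + 1)))
    (a : EtCoh.H X N (n + 1))
    (ha : ∀ y : Y, ∃ (V : Y.Etale) (v : V.left), V.hom v = y ∧
      ∃ _ : PreservesFiniteLimits (EtCoh.pull ((EtCoh.bc f).obj V).hom),
        EtCore.Hpull ((EtCoh.bc f).obj V).hom N (n + 1) a = 0) :
    ∃ c : EtCoh.H Y ((EtCoh.push f).obj N) (n + 1),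
      EtpbcB.EdgeEt.edgeH f N (n + 1) c = a := by
  obtain ⟨a', rfl⟩ := surj_aux (EtCore.pullConst f ℤ) (n + 1) a
  obtain ⟨c, hc⟩ := exists_edge_of_loc f N n hN a' (fun y => by
    obtain ⟨V, v, hv, _, h0⟩ := ha y
    exact ⟨V, v, hv, mk₀_map_toConst_comp f V N (n + 1) a' h0⟩)
  exact ⟨c, by rw [EtpbcB.EdgeEt.edgeH_eq, hc]⟩

end Groth.Agent.Vancyc.H681.EdgeKerFin
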