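import Groth.Agent.Vancyc.H681.Restr

/-!
# The functionals `e_x` of the Picard–Lefschetz theorem

`exists_functionals`: from (K') [classes which die on all Milnor fibres `(P i)_Ω` are restricted from `X`],
an isomorphism `H^n((P i)_Ω, F) ≃ ℤ/N`, and the fact that `Gal(Ω/K)` acts on `H^n((P i)_Ω, F)` by signs,
one gets functionals on `H^n(X_Ω, F)` which are eigenvectors with the same signs and whose common
kernel is fixed by `Gal(Ω/K)`.
-/

set_option autoImplicit false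
universe u
open CategoryTheory CategoryTheory.Limits AlgebraicGeometry
open scoped Groth.Agent.Etcore.EtInst
open Groth.Agent.Etcore.EtInst Groth.Agent.Etcore.HpullCalc Groth.Agent.Etcore.HpVia
open Groth.Agent.Vancyc.H681.Restr

namespace Groth.Agent.Vancyc.H681.Func

variable {R : Type u} [CommRing R] {K : Type u} [Field K] [Algebra R K] {Ω : Type u} [Field Ω]
  [Algebra K Ω] [Algebra R Ω] [IsScalarTower R K Ω]
  {X : Scheme.{u}} (f : X ⟶ Spec (CommRingCat.of R))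

/-- Transport of a scalar action along an equivariant isomorphism. -/
theorem smul_of_equiv {A B : Type*} [AddCommGroup A] [AddCommGroup B] (Φ : A ≃+ B) (s : A →+ A) (t : B →+ B)
    (h : ∀ y, Φ (s y) = t (Φ y)) (ε : ℤ) (hs : ∀ y, s y = ε • y) (z : B) : t z = ε • z := by
  have h1 := h (Φ.symm z)
  rw [hs, map_zsmul, Φ.apply_symm_apply] at h1
  exact h1.symm

/-- The functionals `e_x`. -/
theorem exists_functionals (hlex : ∀ {A B : Scheme.{u}} (h : A ⟶ B), PreservesFiniteLimits (EtCoh.pull h))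
    {ι : Type*} (P : ι → Scheme.{u}) (g : ∀ i, P i ⟶ X)
    (F : EtCoh.Ab X) (n N : ℕ) [PreservesFiniteLimits (EtCoh.pull (VanCyc.jA R f Ω))]
    [∀ i, PreservesFiniteLimits (EtCoh.pull (fibX Ω f (g i)))]
    [∀ i (τ : Ω ≃ₐ[K] Ω), PreservesFiniteLimits (EtCoh.pull (VanCyc.galGeom (g i ≫ f) τ))]
    (hK : ∀ a : HH (VanCyc.fib R f Ω) ((EtCoh.pull (VanCyc.jA R f Ω)).obj F) n,
      (∀ i, resM f (g i) F n a = 0) → ∃ b : HH X F n, hp (VanCyc.jA R f Ω) F n b = a)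
    (hZ : ∀ i, Nonempty (HH (VanCyc.fib R (g i ≫ f) Ω)
      ((EtCoh.pull (VanCyc.jA R (g i ≫ f) Ω ≫ g i)).obj F) n ≃+ ZMod N))
    (hL : ∀ (τ : Ω ≃ₐ[K] Ω) (i : ι), ∃ ε : ℤ, (ε = 1 ∨ ε = -1) ∧ (Odd n → ε = 1) ∧
      ∀ y : HH (VanCyc.fib R (g i ≫ f) Ω) ((EtCoh.pull (VanCyc.jA R (g i ≫ f) Ω ≫ g i)).obj F) n,
        galM f (g i) τ F n y = ε • y) :
    ∃ e : ι → (EtCoh.H (VanCyc.fib R f Ω) ((EtCoh.pull (VanCyc.jA R f Ω)).obj F) n →+ ZMod N),
      (∀ a, (∀ x, e x a = 0) → ∀ (σ : Ω ≃ₐ[K] Ω) [PreservesFiniteLimits (EtCoh.pull (VanCyc.galGeom f σ))],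
        VanCyc.galH f σ F n a = a) ∧
      ∀ (σ : Ω ≃ₐ[K] Ω) [PreservesFiniteLimits (EtCoh.pull (VanCyc.galGeom f σ))] (x : ι),
        ∃ ε : ℤ, (ε = 1 ∨ ε = -1) ∧ (Odd n → ε = 1) ∧
          ∀ a, e x (VanCyc.galH f σ F n a) = ε • e x a := by
  let Φ := fun i => (hZ i).some
  refine ⟨fun i => (Φ i).toAddMonoidHom.comp (resM f (g i) F n), fun a ha σ _ => ?_, fun σ _ x => ?_⟩
  · obtain ⟨b, hb⟩ := hK a (fun i => (AddEquiv.map_eq_zero_iff (Φ i)).1 (ha i))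
    have h1 : VanCyc.galH f σ F n (hp (VanCyc.jA R f Ω) F n b) = hp (VanCyc.jA R f Ω) F n b :=
      hpVia_hp (VanCyc.galGeom f σ) (VanCyc.jA R f Ω) (VanCyc.jA R f Ω) (VanCyc.galGeom_jA f σ) F n b
    rw [← hb]
    exact h1
  · obtain ⟨ε, h1, h2, h3⟩ := hL σ x
    refine ⟨ε, h1, h2, fun a => ?_⟩
    have h4 : resM f (g x) F n (VanCyc.galH f σ F n a) = ε • resM f (g x) F n a :=
      (resM_galH f (g x) hlex σ F n a).trans (h3 _)
    exact (congrArg (Φ x) h4).trans (map_zsmul (Φ x) ε _)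

end Groth.Agent.Vancyc.H681.Func
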