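import Groth.Agent.Etcore.HQ
import Mathlib.Algebra.Homology.HomologicalComplexAbelian

/-!
# Dimension shifting for the restriction map `H^n(Z, F) → H^n(Z', F)`

`K` a complex of sheaves on `X`, exact in positive degrees, acyclic on `Z` and on `Z'`; if
`H^0(Z, K) → H^0(Z', K)` is a quasi-isomorphism in positive degrees (elementwise), then
`H^{n+1}(Z, Z^0 K) → H^{n+1}(Z', Z^0 K)` is bijective.
-/

set_option autoImplicit false
universe u
open CategoryTheory CategoryTheory.Limits AlgebraicGeometry Opposite Abelian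
open scoped Groth.Agent.Etcore.EtInst
open Groth.Agent.Etcore Groth.Agent.Etcore.EtInst Groth.Agent.Etcore.HQ

namespace Groth.Agent.Vancyc.H681.NatShift

section complex

variable {A : Type*} [Category* A] [Abelian A] (K : CochainComplex A ℕ)

/-- `Z^q → K^q → Z^{q+1}`. -/
noncomputable abbrev SZ (q : ℕ) : ShortComplex A :=
  ShortComplex.mk (K.iCycles q) (K.toCycles q (q + 1)) (by
    rw [← cancel_mono (K.iCycles (q + 1)), Category.assoc, K.toCycles_i, K.iCycles_d, zero_comp])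

theorem SZ_shortExact (q : ℕ) (h : K.ExactAt (q + 1)) : (SZ K q).ShortExact where
  exact := by
    refine ShortComplex.exact_of_f_is_kernel _ ?_
    refine KernelFork.IsLimit.ofι _ _ (fun {W} k hk => K.liftCycles k (q + 1) (by simp) ?_)
      (fun {W} k hk => K.liftCycles_i _ _ _ _) (fun {W} k hk b hb => ?_)
    · rw [← K.toCycles_i q (q + 1), ← Category.assoc]
      exact (congrArg (fun t => t ≫ K.iCycles (q + 1)) hk).trans zero_comp
    · rw [← cancel_mono (K.iCycles q)]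
      exact hb.trans (K.liftCycles_i _ _ _ _).symm
  mono_f := inferInstanceAs (Mono (K.iCycles q))
  epi_g := by
    have h1 : (K.sc (q + 1)).Exact := h
    have h2 : Epi (K.sc (q + 1)).toCycles := h1.epi_toCycles
    have h3 : (ComplexShape.up ℕ).prev (q + 1) = q := CochainComplex.prev_nat_succ q
    have key : ∀ i, (ComplexShape.up ℕ).prev (q + 1) = i → Epi (K.toCycles i (q + 1)) := by
      intro i hi
      subst hi
      have e : K.toCycles _ (q + 1) = (K.sc (q + 1)).toCycles := by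
        rw [← cancel_mono (K.iCycles (q + 1)), K.toCycles_i]
        exact (K.sc (q + 1)).toCycles_i.symm
      rw [e]
      exact h2
    exact key q h3

end complex

variable {X : Scheme.{u}} {Z Z' : Scheme.{u}} {q : Z ⟶ X} {q' : Z' ⟶ X} (r : Z' ⟶ Z) (hr : r ≫ q = q')

theorem map_comp {F G H : EtCoh.Ab X} (φ : F ⟶ G) (ψ : G ⟶ H) (n : ℕ) (x : HQ F q n) :
    map (φ ≫ ψ) q n x = map ψ q n (map φ q n x) := by
  rw [map_apply, map_apply, map_apply, CategoryTheory.Functor.map_comp, HHmap_comp]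

theorem exists_map_f_eq {S : ShortComplex (EtCoh.Ab X)} (hS : S.ShortExact) (n : ℕ) (x : HQ S.X₂ q n)
    (h : map S.g q n x = 0) : ∃ y : HQ S.X₁ q n, map S.f q n y = x := by
  have := pfl q
  exact (ExtMap.exact_fg (hS.map_of_exact (EtCoh.pull q)) (EtCoh.const Z ℤ) n x).1 h

theorem map_f_injective {S : ShortComplex (EtCoh.Ab X)} (hS : S.ShortExact) (x : HQ S.X₁ q 0)
    (h : map S.f q 0 x = 0) : x = 0 := by
  have := pfl q
  exact (injective_iff_map_eq_zero _).1
    (ExtMap.injective_lf_zero (hS.map_of_exact (EtCoh.pull q)) (EtCoh.const Z ℤ)) x h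

variable (K : CochainComplex (EtCoh.Ab X) ℕ) (hex : ∀ k, K.ExactAt (k + 1))
  (hA : ∀ k n (x : HQ (K.X k) q (n + 1)), x = 0) (hA' : ∀ k n (x : HQ (K.X k) q' (n + 1)), x = 0)

include hex hA'

theorem surj_one (m : ℕ)
    (hs : ∀ z : HQ (K.X (m + 1)) q' 0, map (K.d (m + 1) (m + 2)) q' 0 z = 0 →
      ∃ (b : HQ (K.X (m + 1)) q 0) (t : HQ (K.X m) q' 0), map (K.d (m + 1) (m + 2)) q 0 b = 0 ∧
        z = res _ r hr 0 b + map (K.d m (m + 1)) q' 0 t) :
    Function.Surjective (res (q' := q') (K.cycles m) r hr 1) := by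
  intro x
  have hS := SZ_shortExact K m (hex m)
  have hS1 := SZ_shortExact K (m + 1) (hex (m + 1))
  obtain ⟨y, hy⟩ := exists_δ_eq hS q' 0 x (hA' m 0 _)
  obtain ⟨b, t, hb, hz⟩ := hs (map (K.iCycles (m + 1)) q' 0 y) (by
    rw [← map_comp, K.iCycles_d, map_apply, Functor.map_zero, HHmap_apply, Ext.mk₀_zero, Ext.comp_zero])
  obtain ⟨b1, hb1⟩ := exists_map_f_eq hS1 0 b (by
    apply map_f_injective (SZ_shortExact K (m + 2) (hex (m + 2)))
    refine (map_comp _ _ 0 b).symm.trans ?_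
    rw [K.toCycles_i]
    exact hb)
  have h1 : y = res _ r hr 0 b1 + map (K.toCycles m (m + 1)) q' 0 t := by
    rw [← sub_eq_zero]
    apply map_f_injective hS1
    rw [map_sub, map_add, ← map_comp, K.toCycles_i, ← res_map, sub_eq_zero]
    refine hz.trans ?_
    congr 2
    exact hb1.symm
  refine ⟨δ hS q 0 b1, ?_⟩
  have h2 : δ hS q' 0 (map (K.toCycles m (m + 1)) q' 0 t) = 0 := δ_map hS q' 0 t
  refine (res_δ hS r hr 0 b1).trans ?_
  rw [← hy, h1, map_add, h2, add_zero]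

theorem surj (hs : ∀ m, ∀ z : HQ (K.X (m + 1)) q' 0, map (K.d (m + 1) (m + 2)) q' 0 z = 0 →
      ∃ (b : HQ (K.X (m + 1)) q 0) (t : HQ (K.X m) q' 0), map (K.d (m + 1) (m + 2)) q 0 b = 0 ∧
        z = res _ r hr 0 b + map (K.d m (m + 1)) q' 0 t) (n : ℕ) :
    ∀ k, Function.Surjective (res (q' := q') (K.cycles k) r hr (n + 1)) := by
  induction n with
  | zero => exact fun k => surj_one r hr K hex hA' k (hs k)
  | succ n ih =>
    intro k x
    have hS := SZ_shortExact K k (hex k)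
    obtain ⟨y, hy⟩ := exists_δ_eq hS q' (n + 1) x (hA' k (n + 1) _)
    obtain ⟨y', hy'⟩ := ih (k + 1) y
    refine ⟨δ hS q (n + 1) y', ?_⟩
    refine (res_δ hS r hr (n + 1) y').trans ?_
    rw [← hy]
    exact congrArg _ hy'

include hA

theorem inj_one (m : ℕ)
    (hi : ∀ b : HQ (K.X (m + 1)) q 0, map (K.d (m + 1) (m + 2)) q 0 b = 0 →
      ∀ t : HQ (K.X m) q' 0, res _ r hr 0 b = map (K.d m (m + 1)) q' 0 t →
        ∃ v : HQ (K.X m) q 0, b = map (K.d m (m + 1)) q 0 v)
    (x : HQ (K.cycles m) q 1) (hx : res (q' := q') (K.cycles m) r hr 1 x = 0) : x = 0 := by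
  have hS := SZ_shortExact K m (hex m)
  have hS1 := SZ_shortExact K (m + 1) (hex (m + 1))
  obtain ⟨b, hb⟩ := exists_δ_eq hS q 0 x (hA m 0 _)
  have h1 : δ hS q' 0 (res _ r hr 0 b) = 0 := by
    refine (res_δ hS r hr 0 b).symm.trans ?_
    refine (congrArg _ hb).trans hx
  obtain ⟨t, ht⟩ := exists_map_eq hS q' 0 _ h1
  obtain ⟨v, hv⟩ := hi (map (K.iCycles (m + 1)) q 0 b) (by
    rw [← map_comp, K.iCycles_d, map_apply, Functor.map_zero, HHmap_apply, Ext.mk₀_zero, Ext.comp_zero]) t (by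
    rw [res_map]
    refine (congrArg _ ht).symm.trans ?_
    refine (map_comp _ _ 0 t).symm.trans ?_
    rw [K.toCycles_i])
  have h2 : b = map (K.toCycles m (m + 1)) q 0 v := by
    rw [← sub_eq_zero]
    apply map_f_injective hS1
    rw [map_sub, sub_eq_zero]
    refine hv.trans ?_
    rw [← K.toCycles_i m (m + 1)]
    exact map_comp _ _ 0 v
  rw [← hb, h2]
  exact δ_map hS q 0 v

theorem inj
    (hi : ∀ m, ∀ b : HQ (K.X (m + 1)) q 0, map (K.d (m + 1) (m + 2)) q 0 b = 0 →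
      ∀ t : HQ (K.X m) q' 0, res _ r hr 0 b = map (K.d m (m + 1)) q' 0 t →
        ∃ v : HQ (K.X m) q 0, b = map (K.d m (m + 1)) q 0 v) (n : ℕ) :
    ∀ k, ∀ x : HQ (K.cycles k) q (n + 1), res (q' := q') (K.cycles k) r hr (n + 1) x = 0 → x = 0 := by
  induction n with
  | zero => exact fun k x => inj_one r hr K hex hA hA' k (hi k) x
  | succ n ih =>
    intro k x hx
    have hS := SZ_shortExact K k (hex k)
    obtain ⟨y, hy⟩ := exists_δ_eq hS q (n + 1) x (hA k (n + 1) _)
    have h1 : δ hS q' (n + 1) (res _ r hr (n + 1) y) = 0 := by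
      refine (res_δ hS r hr (n + 1) y).symm.trans ?_
      exact (congrArg _ hy).trans hx
    obtain ⟨t, ht⟩ := exists_map_eq hS q' (n + 1) _ h1
    have h2 : y = 0 := by
      refine ih (k + 1) y ?_
      refine ht.symm.trans ?_
      rw [hA' k n t]
      exact map_zero _
    rw [← hy, h2]
    exact map_zero _

theorem bijective
    (hs : ∀ m, ∀ z : HQ (K.X (m + 1)) q' 0, map (K.d (m + 1) (m + 2)) q' 0 z = 0 →
      ∃ (b : HQ (K.X (m + 1)) q 0) (t : HQ (K.X m) q' 0), map (K.d (m + 1) (m + 2)) q 0 b = 0 ∧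
        z = res _ r hr 0 b + map (K.d m (m + 1)) q' 0 t)
    (hi : ∀ m, ∀ b : HQ (K.X (m + 1)) q 0, map (K.d (m + 1) (m + 2)) q 0 b = 0 →
      ∀ t : HQ (K.X m) q' 0, res _ r hr 0 b = map (K.d m (m + 1)) q' 0 t →
        ∃ v : HQ (K.X m) q 0, b = map (K.d m (m + 1)) q 0 v) (n : ℕ) :
    Function.Bijective (res (q' := q') (K.cycles 0) r hr (n + 1)) :=
  ⟨(injective_iff_map_eq_zero _).2 (inj r hr K hex hA hA' hi n 0), surj r hr K hex hA' hs n 0⟩

end Groth.Agent.Vancyc.H681.NatShift
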