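import Groth.Agent.Vancyc.H681.AbHom
import Groth.Agent.Vancyc.H681.NatShift
import Groth.Agent.Vancyc.H680.Germ
import Groth.Agent.Etcore.StalkLimN
import Groth.Agent.Etcore.HpVia
import Groth.Agent.Vancyc.H693.AbsDer

/-!
# Local = global, natural form

`f : X ⟶ Y` qcqs, `ξ` a geometric point of `Y`, `XA = X ×_Y Spec O^sh_ξ`, `a : XA ⟶ X`.  If all `R^q f_* F` are
good at `ξ` (no cohomology on `Y`, global sections = stalk), then `a^* : H^n(X, F) ⟶ H^n(XA, a⁻¹F)` is
bijective.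
-/

set_option autoImplicit false
universe u
open CategoryTheory CategoryTheory.Limits AlgebraicGeometry Opposite Abelian
open scoped Groth.Agent.Etcore.EtInst
open Groth.Agent.Etcore Groth.Agent.Etcore.EtInst Groth.Agent.Etcore.HQ Groth.Agent.Etcore.HpullCalc

namespace Groth.Agent.Vancyc.H681.NatGerm

open Groth.Agent.EtpbcB Groth.Agent.EtpbcB.StrictLoc Groth.Agent.EtpbcB.SepClosedPoint
open Groth.Agent.Etcore.StalkLim Groth.Agent.Etcore.SecPull
open Groth.Agent.Vancyc.H680 Groth.Agent.Vancyc.H680.Germ Groth.Agent.Vancyc.H680.GoodAbs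
open Groth.Agent.Vancyc.H681.NatShift

attribute [local instance] pfl

variable {X Y : Scheme.{u}} (f : X ⟶ Y) {Ω : Type u} [Field Ω] [IsSepClosed Ω]
  (ξ : Spec (CommRingCat.of Ω) ⟶ Y) {XA : Scheme.{u}} {fA : XA ⟶ Spec (Osh ξ)} {a : XA ⟶ X}
  (h : IsPullback a fA f (toBase ξ))

section psi

/-- The comparison `(f_* G)_ξ → H^0(XA, a⁻¹ G)`. -/
noncomputable def psi (G : EtCoh.Ab X) :
    ((EtCoh.push f ⋙ EtCoh.stalk ξ).obj G : AddCommGrpCat.{u + 1}) →+ HQ G a 0 :=
  (H0 XA ((EtCoh.pull a).obj G)).symm.toAddMonoidHom.comp (cmp f ξ h G).hom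

theorem psi_apply (G : EtCoh.Ab X) (z : ((EtCoh.push f ⋙ EtCoh.stalk ξ).obj G : AddCommGrpCat.{u + 1})) :
    psi f ξ h G z = (H0 XA ((EtCoh.pull a).obj G)).symm (cmp f ξ h G z) := rfl

theorem psi_bijective [QuasiCompact f] [QuasiSeparated f] (G : EtCoh.Ab X) :
    Function.Bijective (psi f ξ h G) :=
  (H0 XA ((EtCoh.pull a).obj G)).symm.bijective.comp
    ⟨cmp_injective f ξ h G, cmp_surjective f ξ h G⟩

theorem psi_map {G G' : EtCoh.Ab X} (φ : G ⟶ G')
    (z : ((EtCoh.push f ⋙ EtCoh.stalk ξ).obj G : AddCommGrpCat.{u + 1})) :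
    psi f ξ h G' ((EtCoh.push f ⋙ EtCoh.stalk ξ).map φ z) = map φ a 0 (psi f ξ h G z) := by
  apply (H0 XA ((EtCoh.pull a).obj G')).injective
  rw [map_apply, H0_map, psi_apply, psi_apply, AddEquiv.apply_symm_apply, AddEquiv.apply_symm_apply]
  exact ConcreteCategory.congr_hom (cmp_naturality f ξ h φ) z

theorem psi_ι (G : EtCoh.Ab X) (i : Idx ξ) (s : EtCoh.sect G ((EtCoh.bc f).obj ((D ξ).obj i))) :
    psi f ξ h G ((coconeP ξ ((EtCoh.push f).obj G).obj).ι.app (op i) s) =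
      sec G a (legX ξ f h i) (legX_hom ξ f h i) s := by
  apply (H0 XA ((EtCoh.pull a).obj G)).injective
  rw [psi_apply, AddEquiv.apply_symm_apply, H0_sec]
  refine (ConcreteCategory.congr_hom (ι_cmp f ξ h G i) s).trans ?_
  have e : rmap f ξ h i = liftBC a (W := EtCoh.top XA) (legX ξ f h i)
      (sq_cond a (legX ξ f h i) (legX_hom ξ f h i)) := by
    apply ext_toFst
    rw [toFst_liftBC]
    exact rmap_pr f ξ h i
  rw [StalkLim.sec, e]
  rfl

/-- The projection of the base change of the final object. -/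
noncomputable abbrev q0 : ((EtCoh.bc f).obj (EtCoh.top Y)).left ⟶ X :=
  ((EtCoh.bc f).obj (EtCoh.top Y)).hom

/-- The map from a neighbourhood to the final object. -/
noncomputable abbrev tTop (i : Idx ξ) : (D ξ).obj i ⟶ EtCoh.top Y :=
  (GammaRpush.topIsTerminal Y).from _

/-- The map from the limit to `X` (in the form of the base change of the final object). -/
noncomputable def r0 : XA ⟶ ((EtCoh.bc f).obj (EtCoh.top Y)).left :=
  legX ξ f h (i₀ ξ) ≫ ((EtCoh.bc f).map (tTop ξ (i₀ ξ))).left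

theorem r0_q0 : r0 f ξ h ≫ q0 f = a := by
  rw [r0, Category.assoc, BCCalc.left_hom, legX_hom]

theorem psi_top (G : EtCoh.Ab X) (b : EtCoh.sect G ((EtCoh.bc f).obj (EtCoh.top Y))) :
    psi f ξ h G ((germNat ξ).app ((EtCoh.push f).obj G) b) =
      res G (r0 f ξ h) (r0_q0 f ξ h) 0 (sec G (q0 f) (𝟙 _) (Category.id_comp _) b) := by
  have e1 : (germNat ξ).app ((EtCoh.push f).obj G) b =
      (coconeP ξ ((EtCoh.push f).obj G).obj).ι.app (op (i₀ ξ))
        (G.obj.map ((EtCoh.bc f).map (tTop ξ (i₀ ξ))).op b) := by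
    have e2 : (Scheme.pointSmallEtale ξ).fiber.map (tTop ξ (i₀ ξ)) (elt ξ (i₀ ξ)) = eltTop ξ :=
      elt_unique ξ _
    have e3 := StalkSec.germ_res ξ ((EtCoh.push f).obj G) (tTop ξ (i₀ ξ)) (elt ξ (i₀ ξ)) b
    rw [e2] at e3
    exact e3.symm
  rw [e1, psi_ι, res_sec G (r0 f ξ h) (r0_q0 f ξ h) (𝟙 _) (Category.id_comp _) (r0 f ξ h) (r0_q0 f ξ h)
    (Category.comp_id _)]
  exact sec_res G a (legX ξ f h (i₀ ξ)) (legX_hom ξ f h (i₀ ξ)) ((EtCoh.bc f).map (tTop ξ (i₀ ξ)))
    (r0 f ξ h) (r0_q0 f ξ h) rfl b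

end psi

section elts

variable {A B : CochainComplex AddCommGrpCat.{u + 1} ℕ} (φ : A ⟶ B)

theorem elt_surj (i j k : ℕ) (hi : (ComplexShape.up ℕ).prev j = i) (hk : (ComplexShape.up ℕ).next j = k)
    (hq : IsIso (HomologicalComplex.homologyMap φ j)) (z : B.X j) (hz : B.d j k z = 0) :
    ∃ (b : A.X j) (t : B.X i), A.d j k b = 0 ∧ z = φ.f j b + B.d i j t := by
  subst hi hk
  exact AbHom.surj ((HomologicalComplex.shortComplexFunctor _ _ j).map φ) hq z hz

theorem elt_inj (i j k : ℕ) (hi : (ComplexShape.up ℕ).prev j = i) (hk : (ComplexShape.up ℕ).next j = k)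
    (hq : IsIso (HomologicalComplex.homologyMap φ j)) (b : A.X j) (hb : A.d j k b = 0)
    (t : B.X i) (e : φ.f j b = B.d i j t) : ∃ v : A.X i, b = A.d i j v := by
  subst hi hk
  exact AbHom.inj ((HomologicalComplex.shortComplexFunctor _ _ j).map φ) hq b hb t e

end elts

section main

theorem isIso_homologyMap {F : EtCoh.Ab X} (J : InjectiveResolution F)
    (hgood : ∀ q, Good (germNat ξ) ((EtCoh.Rpush f q).obj F)) (n : ℕ) :
    IsIso (HomologicalComplex.homologyMap ((NatTrans.mapHomologicalComplex (germNat ξ) (ComplexShape.up ℕ)).app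
      (((EtCoh.push f).mapHomologicalComplex (ComplexShape.up ℕ)).obj J.cocomplex)) n) :=
  GoodEdge.isIso_homologyMap (Γtop Y) (EtCoh.stalk ξ) (germNat ξ) _
    (fun i => isAcyc_push f _ (J.injective i))
    (fun i => GoodEdge.IsAcyc.of_iso _ (J.isoRightDerivedObj (EtCoh.push f) i) (hgood i).1) n
    ((NatTrans.isIso_app_iff_of_iso (germNat ξ) (J.isoRightDerivedObj (EtCoh.push f) n)).1 (hgood n).2)

theorem eq_zero_q0 (I : EtCoh.Ab X) [Injective I] (n : ℕ) (x : HQ I (q0 f) (n + 1)) : x = 0 := by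
  have : Etale (q0 f) := ((EtCoh.bc f).obj (EtCoh.top Y)).prop
  exact eq_zero_of_injective I (q0 f) n x

variable [QuasiCompact f] [QuasiSeparated f]

include h in
theorem eq_zero_a (I : EtCoh.Ab X) [Injective I] (n : ℕ) (x : HQ I a (n + 1)) : x = 0 := by
  have := (subsingleton_H_iff _ _).1 (StalkLimN.subsingleton_H_pull f ξ h I (Nat.succ_pos n))
  exact Subsingleton.elim (α := HQ I a (n + 1)) _ _

theorem sec_bij (G : EtCoh.Ab X) : Function.Bijective (sec G (q0 f) (𝟙 _) (Category.id_comp _)) :=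
  sec_bijective G ((EtCoh.bc f).obj (EtCoh.top Y))

/-- In positive degrees. -/
theorem bijective_res_succ (F : EtCoh.Ab X)
    (hgood : ∀ q, Good (germNat ξ) ((EtCoh.Rpush f q).obj F)) (n : ℕ) :
    Function.Bijective (res F (r0 f ξ h) (r0_q0 f ξ h) (n + 1)) := by
  let J := injectiveResolution F
  let K := J.cocomplex
  have hK : ∀ k, Injective (K.X k) := J.injective
  let L := ((EtCoh.push f).mapHomologicalComplex (ComplexShape.up ℕ)).obj K
  let φ := (NatTrans.mapHomologicalComplex (germNat ξ) (ComplexShape.up ℕ)).app L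
  have hφ : ∀ k, IsIso (HomologicalComplex.homologyMap φ k) := isIso_homologyMap f ξ J hgood
  have hnext : ∀ m : ℕ, (ComplexShape.up ℕ).next (m + 1) = m + 2 := fun m => CochainComplex.next ℕ _
  have hprev : ∀ m : ℕ, (ComplexShape.up ℕ).prev (m + 1) = m := fun m => CochainComplex.prev_nat_succ m
  have hmain := NatShift.bijective (r0 f ξ h) (r0_q0 f ξ h) K (fun k => J.cocomplex_exactAt_succ k)
    (fun k n x => eq_zero_q0 f (K.X k) n x) (fun k n x => eq_zero_a f ξ h (K.X k) n x) ?_ ?_ n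
  · obtain ⟨e, -⟩ := H693.AbsDer.exists_cyc0 K (J.ι.f 0) (J.ι_f_zero_comp_complex_d) J.exact₀
    have h1 : ∀ x, map e.hom a (n + 1) (res F (r0 f ξ h) (r0_q0 f ξ h) (n + 1) x) =
        res (K.cycles 0) (r0 f ξ h) (r0_q0 f ξ h) (n + 1) (map e.hom (q0 f) (n + 1) x) :=
      fun x => (res_map e.hom (r0 f ξ h) (r0_q0 f ξ h) (n + 1) x).symm
    have h2 : Function.Bijective (map e.hom a (n + 1)) := HHmap_bijective _ _
    have h3 : Function.Bijective (map e.hom (q0 f) (n + 1)) := HHmap_bijective _ _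
    have h4 : Function.Bijective (map e.hom a (n + 1) ∘ res F (r0 f ξ h) (r0_q0 f ξ h) (n + 1)) := by
      have : (map e.hom a (n + 1) ∘ res F (r0 f ξ h) (r0_q0 f ξ h) (n + 1) : _ → _) =
        res (K.cycles 0) (r0 f ξ h) (r0_q0 f ξ h) (n + 1) ∘ map e.hom (q0 f) (n + 1) := funext h1
      rw [this]
      exact hmain.comp h3
    exact (Function.Bijective.of_comp_iff' h2 _).1 h4
  · intro m z hz
    obtain ⟨z', rfl⟩ := (psi_bijective f ξ h (K.X (m + 1))).2 z
    have h1 : (EtCoh.push f ⋙ EtCoh.stalk ξ).map (K.d (m + 1) (m + 2)) z' = 0 := by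
      apply (psi_bijective f ξ h (K.X (m + 2))).1
      rw [map_zero, psi_map]
      exact hz
    obtain ⟨b, t, hb, hzt⟩ := elt_surj φ m (m + 1) (m + 2) (hprev m) (hnext m) (hφ (m + 1)) z' h1
    refine ⟨sec (K.X (m + 1)) (q0 f) (𝟙 _) (Category.id_comp _) b, psi f ξ h (K.X m) t, ?_, ?_⟩
    · rw [map_sec]
      have h2 : (K.d (m + 1) (m + 2)).hom.app _ b = (0 : EtCoh.sect (K.X (m + 2)) _) := hb
      exact (congrArg (sec (K.X (m + 2)) (q0 f) (𝟙 _) (Category.id_comp _)) h2).trans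
        (sec_zero (K.X (m + 2)) (q0 f) (𝟙 _) (Category.id_comp _))
    · rw [← psi_top, ← psi_map, ← map_add]
      exact congrArg _ hzt
  · intro m b hb t ht
    obtain ⟨b', rfl⟩ := (sec_bij f (K.X (m + 1))).2 b
    obtain ⟨t', rfl⟩ := (psi_bijective f ξ h (K.X m)).2 t
    have h1 : (K.d (m + 1) (m + 2)).hom.app _ b' = (0 : EtCoh.sect (K.X (m + 2)) _) := by
      apply (sec_bij f (K.X (m + 2))).1
      rw [sec_zero, ← map_sec]
      exact hb
    have h2 : (germNat ξ).app ((EtCoh.push f).obj (K.X (m + 1))) b' =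
        (EtCoh.push f ⋙ EtCoh.stalk ξ).map (K.d m (m + 1)) t' := by
      apply (psi_bijective f ξ h (K.X (m + 1))).1
      rw [psi_top, psi_map]
      exact ht
    obtain ⟨v, hv⟩ := elt_inj φ m (m + 1) (m + 2) (hprev m) (hnext m) (hφ (m + 1)) b' h1 t' h2
    refine ⟨sec (K.X m) (q0 f) (𝟙 _) (Category.id_comp _) v, ?_⟩
    rw [map_sec]
    exact congrArg _ hv

/-- In degree zero. -/
theorem bijective_res_zero (F : EtCoh.Ab X)
    (hgood : IsIso ((germNat ξ).app ((EtCoh.push f).obj F))) :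
    Function.Bijective (res F (r0 f ξ h) (r0_q0 f ξ h) 0) := by
  have h1 : (res F (r0 f ξ h) (r0_q0 f ξ h) 0) ∘ (sec F (q0 f) (𝟙 _) (Category.id_comp _)) =
      psi f ξ h F ∘ (germNat ξ).app ((EtCoh.push f).obj F) :=
    funext fun b => (psi_top f ξ h F b).symm
  have h2 : Function.Bijective (psi f ξ h F ∘ (germNat ξ).app ((EtCoh.push f).obj F)) :=
    (psi_bijective f ξ h F).comp ((ConcreteCategory.isIso_iff_bijective _).1 hgood)
  rw [← h1] at h2
  exact (Function.Bijective.of_comp_iff _ (sec_bij f F)).1 h2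

theorem isIso_zero (F : EtCoh.Ab X) (hgood : Good (germNat ξ) ((EtCoh.Rpush f 0).obj F)) :
    IsIso ((germNat ξ).app ((EtCoh.push f).obj F)) :=
  (NatTrans.isIso_app_iff_of_iso (germNat ξ) ((EtCoh.push f).rightDerivedZeroIsoSelf.app F)).1 hgood.2

instance isIso_q0 : IsIso (q0 f) := by
  have : IsPullback (BCCalc.pr f (EtCoh.top Y)) (q0 f) (EtCoh.top Y).hom f :=
    BCCalc.isPullback_pr f (EtCoh.top Y)
  have h1 : IsIso (EtCoh.top Y).hom := inferInstanceAs (IsIso (𝟙 Y))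
  exact this.isIso_snd_of_isIso

include h in
/-- **Local = global, natural form.** -/
theorem bijective_hp (F : EtCoh.Ab X)
    (hgood : ∀ q, Good (germNat ξ) ((EtCoh.Rpush f q).obj F)) (n : ℕ) :
    Function.Bijective (hp a F n) := by
  have h1 : Function.Bijective (res F (r0 f ξ h) (r0_q0 f ξ h) n) := by
    cases n with
    | zero => exact bijective_res_zero f ξ h F (isIso_zero f ξ F (hgood 0))
    | succ n => exact bijective_res_succ f ξ h F hgood n
  have h2 : Function.Bijective (hp (q0 f) F n) := HpVia.hp_bijective_of_isIso (q0 f) F n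
  have h3 : ⇑(hp a F n) = res F (r0 f ξ h) (r0_q0 f ξ h) n ∘ hp (q0 f) F n := by
    funext x
    exact (hp_comp_th (r0 f ξ h) (q0 f) a (r0_q0 f ξ h) F n x).symm
  rw [h3]
  exact h1.comp h2

end main

end Groth.Agent.Vancyc.H681.NatGerm
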