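import Groth.Agent.Vancyc.H680.Model

/-!
# The split models: goodness at every geometric point over the singular point

As `H680.Model.good_Rpush`, for an arbitrary geometric point over the singular point.
-/

set_option autoImplicit false
universe u
open CategoryTheory CategoryTheory.Limits AlgebraicGeometry Opposite MvPolynomial

namespace Groth.Agent.Vancyc.H681.OddGood

open Groth.Agent.Vancyc.H680 Groth.Agent.Vancyc.H680.Germ Groth.Agent.Vancyc.H680.GoodAbs
  Groth.Agent.Vancyc.H680.HypSmooth Groth.Agent.Vancyc.H680.HypPoint Groth.Agent.Vancyc.H680.ModelAlg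
  Groth.Agent.Vancyc.H680.Model Groth.Agent.Vancyc.H694.StdT Groth.Agent.Vancyc.H686.Van

section final

variable (R : Type u) [CommRing R] [IsDomain R] [IsDiscreteValuationRing R] [HenselianLocalRing R]
  [IsSepClosed (IsLocalRing.ResidueField R)] {σ : Type} [Fintype σ] (F : MvPolynomial σ R)
  (a : σ → KK R) (ha : eval₂Hom (toKK R) a F = 0) {N : ℕ} (hN : IsUnit (N : R))
  (hV : Van N (str F)) (G : MvPolynomial σ (KK R)) (hG2 : G.IsHomogeneous 2)
  (hG : eval₂Hom ((C : KK R →+* MvPolynomial σ (KK R)).comp (toKK R)) (fun i => X i + C (a i)) F = G)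
  (hpd : ∀ y, y ≠ x0 F a ha → ∃ i, Ideal.Quotient.mk (Ideal.span {F}) (pderiv i F) ∉ PrimeSpectrum.asIdeal y)
  {Ω' : Type u} [Field Ω'] [IsSepClosed Ω']
  (ξ : Spec (CommRingCat.of Ω') ⟶ Spec (CommRingCat.of (MvPolynomial σ R ⧸ Ideal.span {F})))
  (hξ : ξ default = x0 F a ha)

include hN hV hG2 hG in
theorem good_const_at : Good (germNat ξ) (EtCoh.const _ (ZMod N)) := by
  have hNK : ((N : ℕ) : KK R) ≠ 0 := by
    have h := hN.map (toKK R)
    rw [map_natCast] at h
    exact h.ne_zero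
  exact GoodFibre.good_const_of_fibre R (str F) hV (TransBC.isPullback (toKK R) a F G hG)
    (LocalGlobal.pos_of_isUnit hN) (H_cone G hG2 hNK) ξ

variable {Ω : Type u} [Field Ω] [IsSepClosed Ω] {g : Spec (CommRingCat.of Ω) ⟶ Spec (CommRingCat.of R)}
  {P : Scheme.{u}} {h : P ⟶ Spec (CommRingCat.of (MvPolynomial σ R ⧸ Ideal.span {F}))}
  {e : P ⟶ Spec (CommRingCat.of Ω)} (hsq : IsPullback e h g (str F))

include hN hV hG2 hG hpd hξ hsq in
theorem good_Rpush_at (q : ℕ) : Good (germNat ξ) ((EtCoh.Rpush h q).obj (EtCoh.const P (ZMod N))) := by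
  have hs : str F (ξ default) = IsLocalRing.closedPoint R := by
    rw [hξ]
    exact str_x0 F a ha
  have hcl : IsClosed ({ξ default} : Set _) := by
    rw [hξ]
    exact isClosed_x0 F a ha
  let U : (Spec (CommRingCat.of (MvPolynomial σ R ⧸ Ideal.span {F}))).Opens :=
    ⟨{ξ default}ᶜ, hcl.isOpen_compl⟩
  have hsc := SepPoint.isSepClosed_residueField (str F) (ξ default) hcl hs
  refine LocalGlobal.good_Rpush R (str F) hN ξ hs hV hcl hsc U.ι
    (fun y hy => ?_) ?_ (good_const_at R F a hN hV G hG2 hG ξ) hsq q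
  · rw [Scheme.Opens.range_ι]
    exact hy
  · refine smooth_comp F U.ι fun y hy => hpd y ?_
    rw [Scheme.Opens.range_ι] at hy
    rw [← hξ]
    exact hy

end final

section models

variable (R : Type u) [CommRing R] [IsDomain R] [IsDiscreteValuationRing R] [HenselianLocalRing R]
  [IsSepClosed (IsLocalRing.ResidueField R)] (m : ℕ) (b : R) {N : ℕ} (hN : IsUnit (N : R))

theorem eq_x0_odd (hb0 : b ≠ 0) (hb : b ∈ IsLocalRing.maximalIdeal R)
    (y : Spec (CommRingCat.of (VanCyc.quadRing R (stdT R m) b)))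
    (hy : PrimeSpectrum.asIdeal y = VanCyc.originQuot R (stdT R m) b) :
    y = x0 (FO m b) (fun _ => 0) (ev_FO m b hb) := by
  by_contra hne
  obtain ⟨i, hi⟩ := odd_exists_pderiv m b hb0 hb y hne
  apply hi
  have hX (j : Fin (2 * m)) : Ideal.Quotient.mk (Ideal.span {FO m b}) (X j) ∈ PrimeSpectrum.asIdeal y := by
    rw [hy]
    exact Ideal.mem_map_of_mem _ (Ideal.mem_sup_right (Ideal.subset_span ⟨j, rfl⟩))
  rcases eq_lo_or_hi i with ⟨i, rfl⟩ | ⟨i, rfl⟩
  · rw [map_sub, pderiv_lo, pderiv_C, sub_zero]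
    exact hX _
  · rw [map_sub, pderiv_hi, pderiv_C, sub_zero]
    exact hX _

include hN in
/-- All higher direct images of `ℤ/N` along `Y_Ω ⟶ Y` are good at every geometric point over the origin. -/
theorem good_odd (hb0 : b ≠ 0) (hb : b ∈ IsLocalRing.maximalIdeal R)
    {Ω' : Type u} [Field Ω'] [IsSepClosed Ω']
    (ξ : Spec (CommRingCat.of Ω') ⟶ Spec (CommRingCat.of (VanCyc.quadRing R (stdT R m) b)))
    (hξ : PrimeSpectrum.asIdeal (ξ default) = VanCyc.originQuot R (stdT R m) b)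
    {Ω : Type u} [Field Ω] [IsSepClosed Ω] {g : Spec (CommRingCat.of Ω) ⟶ Spec (CommRingCat.of R)}
    {P : Scheme.{u}} {h : P ⟶ Spec (CommRingCat.of (VanCyc.quadRing R (stdT R m) b))}
    {e : P ⟶ Spec (CommRingCat.of Ω)} (hsq : IsPullback e h g (modelOdd R m b)) (q : ℕ) :
    Good (germNat ξ) ((EtCoh.Rpush h q).obj (EtCoh.const P (ZMod N))) :=
  good_Rpush_at R (FO m b) _ (ev_FO m b hb) hN (van_odd R m b hN) _ (isHomogeneous_quadPoly (KK R) m)
    (trans_FO m b hb) (odd_exists_pderiv m b hb0 hb) ξ (eq_x0_odd R m b hb0 hb _ hξ) hsq q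

end models

end Groth.Agent.Vancyc.H681.OddGood
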